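import Cfsg.Agent.H347.Aff.TwoA
import Cfsg.Agent.ClassicalGeometry.SympBasic
import Cfsg.Agent.ClassicalGeometry.TwoFamilies
import Cfsg.Agent.Sigma.Symp

/-!
# The natural module of `Sp_2m(2)` (helper347)

* `even_fix` : the fixed space of a symplectic matrix of odd order has even dimension;
* `no35` : `Sp_8(2)` has no element of order 35.
-/

set_option autoImplicit false

namespace Cfsg.Agent.H347.Aff.Two

open MulAction

section Count

variable {V : Type*} [AddCommGroup V] {Γ : Type*} [Group Γ] [DistribMulAction Γ V]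

theorem card_modEq_inf [Finite V] {r : ℕ} (hr : r.Prime) {x : Γ} (hx : x ^ r = 1) (W : AddSubgroup V)
    (hW : ∀ w ∈ W, x • w ∈ W) : Nat.card W ≡ Nat.card (W ⊓ fixS V x : AddSubgroup V) [MOD r] := by
  have : Fact r.Prime := ⟨hr⟩
  have hpow : ∀ k : ℕ, ∀ w ∈ W, x ^ k • w ∈ W := by
    intro k
    induction k with
    | zero => intro w hw; rwa [pow_zero, one_smul]
    | succ k ih => intro w hw; rw [pow_succ', mul_smul]; exact hW _ (ih w hw)
  have hfin : IsOfFinOrder x := isOfFinOrder_iff_pow_eq_one.2 ⟨r, hr.pos, hx⟩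
  have hz : ∀ g : Subgroup.zpowers x, ∀ w ∈ W, g • w ∈ W := by
    rintro ⟨g, hg⟩ w hw
    rw [← hfin.mem_powers_iff_mem_zpowers] at hg
    obtain ⟨k, rfl⟩ := hg
    exact hpow k w hw
  have hpg : IsPGroup r (Subgroup.zpowers x) := by
    rintro ⟨y, k, rfl⟩
    refine ⟨1, Subtype.ext ?_⟩
    rw [pow_one]
    change (x ^ k) ^ r = 1
    rw [← zpow_natCast, ← zpow_mul, mul_comm, zpow_mul, zpow_natCast, hx, one_zpow]
  let act : DistribMulAction (Subgroup.zpowers x) W := subAct (Γ := Subgroup.zpowers x) W hz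
  have h1 := hpg.card_modEq_card_fixedPoints W
  have e : Nat.card (fixedPoints (Subgroup.zpowers x) W) = Nat.card (W ⊓ fixS V x : AddSubgroup V) := by
    refine Nat.card_congr
      { toFun := fun w => ⟨((w : W) : V), ⟨(w : W).2, ?_⟩⟩
        invFun := fun w => ⟨⟨w, w.2.1⟩, ?_⟩
        left_inv := fun w => rfl
        right_inv := fun w => rfl }
    · exact congrArg Subtype.val (w.2 ⟨x, Subgroup.mem_zpowers x⟩)
    · rintro ⟨y, hy⟩
      apply Subtype.ext
      change y • (w : V) = w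
      have h3 : x ∈ stabilizer Γ (w : V) := w.2.2
      have h4 : Subgroup.zpowers x ≤ stabilizer Γ (w : V) := by rwa [Subgroup.zpowers_le]
      exact h4 hy
  rwa [e] at h1

theorem card_modEq_fixS [Finite V] {r : ℕ} (hr : r.Prime) {x : Γ} (hx : x ^ r = 1) :
    Nat.card V ≡ Nat.card (fixS V x) [MOD r] := by
  have h := card_modEq_inf hr hx (⊤ : AddSubgroup V) fun _ _ => AddSubgroup.mem_top _
  rwa [top_inf_eq, AddSubgroup.card_top] at h

theorem card_fixS_lt [Finite V] {x : Γ} (h : ∃ v : V, x • v ≠ v) : Nat.card (fixS V x) < Nat.card V := by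
  obtain ⟨v, hv⟩ := h
  refine lt_of_le_of_ne (AddSubgroup.card_le_card_addGroup _) fun h8 => hv ?_
  have h9 : fixS V x = ⊤ := AddSubgroup.eq_top_of_card_eq _ h8
  have : v ∈ fixS V x := h9 ▸ AddSubgroup.mem_top v
  exact this

theorem no35_aux [Finite V] (hV : ∀ v : V, v + v = 0) (hV8 : Nat.card V = 2 ^ 8) {x y : Γ} (hx : x ^ 7 = 1)
    (hy : y ^ 5 = 1) (hxy : Commute x y) (hx1 : ∃ v : V, x • v ≠ v) (hy1 : ∃ v : V, y • v ≠ v)
    (hev : ∀ k, Nat.card (fixS V x) = 2 ^ k → Even k) : False := by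
  obtain ⟨c, hc⟩ := card_eq_two_pow (V := fixS V x) (fun v => Subtype.ext (hV v))
  obtain ⟨d, hd⟩ := card_eq_two_pow (V := fixS V y) (fun v => Subtype.ext (hV v))
  obtain ⟨e, he⟩ := card_eq_two_pow (V := (fixS V x ⊓ fixS V y : AddSubgroup V)) (fun v => Subtype.ext (hV v))
  have hcl := card_fixS_lt hx1
  have hdl := card_fixS_lt hy1
  rw [hc, hV8] at hcl
  rw [hd, hV8] at hdl
  have hc8 : c < 8 := (Nat.pow_lt_pow_iff_right (by norm_num)).1 hcl
  have hd8 : d < 8 := (Nat.pow_lt_pow_iff_right (by norm_num)).1 hdl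
  have h1 := card_modEq_fixS (V := V) (by norm_num : Nat.Prime 7) hx
  have h2 := card_modEq_fixS (V := V) (by norm_num : Nat.Prime 5) hy
  have h3 := card_modEq_inf (by norm_num : Nat.Prime 5) hy (fixS V x) fun w hw => by
    change x • y • w = y • w
    rw [← mul_smul, hxy.eq, mul_smul]
    exact congrArg _ hw
  have h4 := card_modEq_inf (by norm_num : Nat.Prime 7) hx (fixS V y) fun w hw => by
    change y • x • w = x • w
    rw [← mul_smul, ← hxy.eq, mul_smul]
    exact congrArg _ hw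
  rw [inf_comm] at h4
  have hcev := hev c hc
  have hec : e ≤ c := by
    have h5 : Nat.card (fixS V x ⊓ fixS V y : AddSubgroup V) ≤ Nat.card (fixS V x) :=
      AddSubgroup.card_le_of_le inf_le_left
    rw [he, hc] at h5
    exact (Nat.pow_le_pow_iff_right (by norm_num)).1 h5
  have hed : e ≤ d := by
    have h5 : Nat.card (fixS V x ⊓ fixS V y : AddSubgroup V) ≤ Nat.card (fixS V y) :=
      AddSubgroup.card_le_of_le inf_le_right
    rw [he, hd] at h5
    exact (Nat.pow_le_pow_iff_right (by norm_num)).1 h5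
  rw [hV8, hc] at h1
  rw [hV8, hd] at h2
  rw [hc, he] at h3
  rw [hd, he] at h4
  unfold Nat.ModEq at h1 h2 h3 h4
  clear hc hd he hcl hdl hev hV8
  interval_cases c <;> simp at h1 <;> first | (exfalso; revert hcev; decide) | skip
  interval_cases d <;> simp at h2 <;> interval_cases e <;> simp at h3 h4

end Count

end Cfsg.Agent.H347.Aff.Two

namespace Cfsg.Agent.H347.Aff.Spm

open Matrix Cfsg Cfsg.Agent.ClassicalGeometry.SympBasic Module Two

variable {F : Type*} [Field F] {m : ℕ}

/-- the natural action -/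
@[reducible] def act (m : ℕ) (F : Type*) [Field F] :
    DistribMulAction (Matrix.symplecticGroup (Fin m) F) (Fin m ⊕ Fin m → F) where
  smul g v := g.1 *ᵥ v
  one_smul v := Matrix.one_mulVec v
  mul_smul g h v := (Matrix.mulVec_mulVec v g.1 h.1).symm
  smul_zero _ := Matrix.mulVec_zero _
  smul_add _ _ _ := Matrix.mulVec_add _ _ _

theorem eq_of_mulVec {g h : Matrix.symplecticGroup (Fin m) F} (H : ∀ v, g.1 *ᵥ v = h.1 *ᵥ v) : g = h := by
  apply Subtype.ext
  exact Matrix.ext_iff_mulVec.2 H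

/-- the fixed space of a matrix -/
def fixM (A : Matrix (Fin m ⊕ Fin m) (Fin m ⊕ Fin m) F) : Submodule F (Fin m ⊕ Fin m → F) where
  carrier := {v | A *ᵥ v = v}
  zero_mem' := Matrix.mulVec_zero _
  add_mem' := fun {a b} ha hb => by
    change A *ᵥ (a + b) = a + b
    rw [Matrix.mulVec_add, ha, hb]
  smul_mem' := fun c a ha => by
    change A *ᵥ (c • a) = c • a
    rw [Matrix.mulVec_smul, ha]

theorem even_fix {A : Matrix (Fin m ⊕ Fin m) (Fin m ⊕ Fin m) F} (hA : A ∈ Matrix.symplecticGroup (Fin m) F)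
    {n : ℕ} (hn : (n : F) ≠ 0) (hAn : A ^ n = 1) : Even (finrank F (fixM A)) := by
  obtain ⟨k, hk⟩ := Cfsg.Agent.ClassicalGeometry.TwoFamilies.exists_finrank_eq_ker_add
    (LinearMap.BilinForm.restrict (sympBilin m F) (fixM A)) (fun v => sympForm_self (v : Fin m ⊕ Fin m → F))
  have hker : LinearMap.ker (LinearMap.BilinForm.restrict (sympBilin m F) (fixM A)) = ⊥ := by
    rw [LinearMap.ker_eq_bot']
    intro u hu
    apply Subtype.ext
    apply eq_zero_of_forall_sympForm_right
    intro v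
    have hApow : ∀ i : ℕ, A ^ i ∈ Matrix.symplecticGroup (Fin m) F := fun i => pow_mem hA i
    have hupow : ∀ i : ℕ, A ^ i *ᵥ (u : Fin m ⊕ Fin m → F) = u := by
      intro i
      induction i with
      | zero => rw [pow_zero, Matrix.one_mulVec]
      | succ i ih => rw [pow_succ, ← Matrix.mulVec_mulVec, show A *ᵥ (u : Fin m ⊕ Fin m → F) = u from u.2, ih]
    have hs : (∑ i ∈ Finset.range n, A ^ i *ᵥ v) ∈ fixM A := by
      change A *ᵥ (∑ i ∈ Finset.range n, A ^ i *ᵥ v) = ∑ i ∈ Finset.range n, A ^ i *ᵥ v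
      rw [← Matrix.sum_mulVec, Matrix.mulVec_mulVec, Finset.mul_sum]
      congr 1
      have h1 : ∑ i ∈ Finset.range n, A * A ^ i = ∑ i ∈ Finset.range n, A ^ (i + 1) :=
        Finset.sum_congr rfl fun i _ => (pow_succ' A i).symm
      rw [h1]
      have h2 := Finset.sum_range_succ (fun i => A ^ i) n
      have h3 := Finset.sum_range_succ' (fun i => A ^ i) n
      rw [h2, hAn, pow_zero] at h3
      exact (add_right_cancel h3).symm
    have h1 : sympForm m F u (∑ i ∈ Finset.range n, A ^ i *ᵥ v) = 0 :=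
      LinearMap.congr_fun hu ⟨_, hs⟩
    have h2 : sympForm m F u (∑ i ∈ Finset.range n, A ^ i *ᵥ v) = n * sympForm m F u v := by
      have h3 : ∀ i ∈ Finset.range n, sympBilin m F u (A ^ i *ᵥ v) = sympForm m F u v := by
        intro i _
        conv_lhs => rw [← hupow i]
        exact sympForm_mulVec (hApow i) _ _
      change sympBilin m F u (∑ i ∈ Finset.range n, A ^ i *ᵥ v) = _
      rw [map_sum, Finset.sum_congr rfl h3, Finset.sum_const, Finset.card_range, nsmul_eq_mul]
    rw [h2] at h1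
    exact (mul_eq_zero.1 h1).resolve_left hn
  rw [hker, finrank_bot, zero_add] at hk
  exact ⟨k, hk⟩

/-- `Sp_8(2)` has no elements of order 35 -/
theorem no35 [Fintype F] (hF : Fintype.card F = 2) {x y : Matrix.symplecticGroup (Fin 4) F} (hx : orderOf x = 7)
    (hy : orderOf y = 5) : ¬ Commute x y := by
  intro hxy
  have hchar : CharP F 2 := by
    have : Fact (Nat.Prime 2) := ⟨Nat.prime_two⟩
    exact charP_of_card_eq_prime hF
  let _ := act 4 F
  have hx7 : x ^ 7 = 1 := by rw [← hx, pow_orderOf_eq_one]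
  have hy5 : y ^ 5 = 1 := by rw [← hy, pow_orderOf_eq_one]
  have hcardV : Nat.card (Fin 4 ⊕ Fin 4 → F) = 2 ^ 8 := by
    rw [Nat.card_eq_fintype_card, Fintype.card_fun, hF]
    rfl
  refine no35_aux (V := Fin 4 ⊕ Fin 4 → F) (fun v => CharTwo.add_self_eq_zero v) hcardV hx7 hy5 hxy ?_ ?_ ?_
  · by_contra h
    push Not at h
    have : x = 1 := eq_of_mulVec fun v => (h v).trans (Matrix.one_mulVec v).symm
    rw [this, orderOf_one] at hx
    norm_num at hx
  · by_contra h
    push Not at h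
    have : y = 1 := eq_of_mulVec fun v => (h v).trans (Matrix.one_mulVec v).symm
    rw [this, orderOf_one] at hy
    norm_num at hy
  · intro k hk
    have h1 := even_fix (m := 4) (A := x.1) x.2 (n := 7) (by
      intro h
      have h2 : (2 : ℕ) ∣ 7 := (CharP.cast_eq_zero_iff F 2 7).1 h
      norm_num at h2) (congrArg Subtype.val hx7)
    have h2 : Nat.card (fixM x.1) = 2 ^ finrank F (fixM x.1) := by
      rw [Module.natCard_eq_pow_finrank (K := F), Nat.card_eq_fintype_card, hF]
    have h3 : Nat.card (fixM x.1) = Nat.card (fixS (Fin 4 ⊕ Fin 4 → F) x) := rfl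
    rw [← h3, h2] at hk
    have h4 := Nat.pow_right_injective (le_refl 2) hk
    rwa [← h4]

end Cfsg.Agent.H347.Aff.Spm
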