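import Cfsg.Agent.H347.Aff.TwoE
import Cfsg.Agent.H347.Aff.Syl
import Cfsg.Agent.H347.Aff.SpLin
import Cfsg.Agent.S0245
import Cfsg.Agent.Lib.Zsigmondy

/-!
# Point stabilizers of `Sp_2m(2)` on `2^(m-1) (2^m ± 1)` points (helper347)
-/

set_option autoImplicit false

namespace Cfsg.Agent.H347.Aff.Spm

open MulAction Cfsg.Agent.H384.TwoTrans Cfsg.Agent.Schreier.Basic Two

universe u v

variable {G : Type u} {Ω : Type v} [Group G] [MulAction G Ω] {T : Subgroup G}

/-- a variant of `dvd_of_cards` -/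
theorem dvd_of_comm (A : AS G Ω T) (hSch : Sch ↥T) (a : Ω) {r p₁ p₂ : ℕ} (hr : r.Prime) (hp₁ : p₁.Prime)
    (hp₂ : p₂.Prime) (h12 : p₁ ≠ p₂) (hrK : r ∣ Nat.card (stabilizer T a))
    (hp : ∀ p, p.Prime → p ∣ Nat.card (stabilizer T a) → p = p₁ ∨ p = p₂ ∨ p = r ∨
      ((∀ x y : T, orderOf x = r → orderOf y = p → ¬ Commute x y) ∧
        ∀ j, 1 ≤ j → p ^ j ∣ Nat.card (stabilizer T a) → ¬ p ^ j ≡ 1 [MOD r]))
    {N : Subgroup (stabilizer G a)} (hN : MinNA N) : r ∣ Nat.card N := by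
  have := A.finG
  have := A.finT
  by_contra hrN
  have : Fact r.Prime := ⟨hr⟩
  obtain ⟨x, hx⟩ := exists_prime_orderOf_dvd_card' r hrK
  have hxT : orderOf ((x : stabilizer T a) : T) = r := by rw [Subgroup.orderOf_coe, hx]
  let y : stabilizer G a := ⟨((x : T) : G), x.2⟩
  have hy : orderOf y = r := by
    rw [← Subgroup.orderOf_coe]
    change orderOf ((x : T) : G) = r
    rw [Subgroup.orderOf_coe, hxT]
  have hyN : y ∈ Subgroup.normalizer (N : Set (stabilizer G a)) := by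
    have := hN.normal
    rw [Subgroup.normalizer_eq_top]
    exact Subgroup.mem_top _
  apply hN.not_solvable
  refine isSolvable_of_two_primes hp₁ hp₂ h12 fun l hl hlN => ?_
  have hlK := hlN.trans (hN.card_dvd A hSch)
  rcases hp l hl hlK with h | h | h | ⟨hlc, h⟩
  · exact Or.inl h
  · exact Or.inr h
  · exact absurd (h ▸ hlN) hrN
  exfalso
  have hv : 1 ≤ (Nat.card N).factorization l :=
    (hl.dvd_iff_one_le_factorization Nat.card_pos.ne').1 hlN
  refine h _ hv ((Nat.ordProj_dvd (Nat.card N) l).trans (hN.card_dvd A hSch))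
    (sylow_modEq hr hy hyN hrN hl fun z hz hzl hcomm => ?_)
  have hzT : (z : G) ∈ T := hN.map_le A hSch ⟨z, hz, rfl⟩
  refine hlc x ⟨z, hzT⟩ hxT ?_ (Subtype.ext ?_)
  swap
  · change ((x : T) : G) * (z : G) = (z : G) * ((x : T) : G)
    exact congrArg Subtype.val hcomm.eq
  rw [Subgroup.orderOf_mk, Subgroup.orderOf_coe, hzl]

/-- `T ≃* Sp_2m(2)` -/
noncomputable def equivSp {X : Type*} [Group X] {F : Type*} [Field F] [Fintype F] (hF : Fintype.card F = 2) {m : ℕ}
    (hm : 1 ≤ m) (e : X ≃* Cfsg.PSp m F) : X ≃* Matrix.symplecticGroup (Fin m) F :=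
  have : Fact (Nat.Prime 2) := ⟨Nat.prime_two⟩
  have : CharP F 2 := charP_of_card_eq_prime hF
  e.trans ((QuotientGroup.quotientMulEquivOfEq (Cfsg.Agent.Sigma.Symp.center_eq_bot hm)).trans
    QuotientGroup.quotientBot)

theorem gen (A : AS G Ω T) (hSch : Sch ↥T) (a : Ω) {F : Type*} [Field F] [Fintype F] (hF : Fintype.card F = 2)
    {m : ℕ} (e : T ≃* Matrix.symplecticGroup (Fin m) F) {r o : ℕ} (hr : r.Prime) (hr2 : r ≠ 2)
    (ho : Big r o) (h1 : 2 * m ≤ o + 2) (h2 : m < o) (hrK : r ∣ Nat.card (stabilizer T a)) : Concl G a := by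
  have : Fact (Nat.Prime 2) := ⟨Nat.prime_two⟩
  have : CharP F 2 := charP_of_card_eq_prime hF
  let act1 : DistribMulAction (Matrix.symplecticGroup (Fin m) F) (Fin m ⊕ Fin m → F) := act m F
  let act2 : DistribMulAction T (Fin m ⊕ Fin m → F) := DistribMulAction.compHom _ e.toMonoidHom
  have hfaith : FaithfulSMul T (Fin m ⊕ Fin m → F) := ⟨fun {g h} H => e.injective (eq_of_mulVec H)⟩
  have hcardV : Nat.card (Fin m ⊕ Fin m → F) = 2 ^ (2 * m) := by
    rw [Nat.card_eq_fintype_card, Fintype.card_fun, hF, Fintype.card_sum, Fintype.card_fin, two_mul]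
  refine concl_of_linear A hSch a (V := Fin m ⊕ Fin m → F) (fun v => funext fun i => CharTwo.add_self_eq_zero (v i)) hr hr2 ho ?_ ?_ hrK
  · rw [hcardV]
    exact Nat.pow_le_pow_right (by norm_num) h1
  · rw [hcardV]
    exact Nat.pow_lt_pow_right (by norm_num) (by omega)

theorem card_eq {X : Type*} [Group X] {F : Type*} [Field F] [Fintype F] (hF : Fintype.card F = 2)
    {m : ℕ} (e : X ≃* Matrix.symplecticGroup (Fin m) F) :
    Nat.card X = 2 ^ (m ^ 2) * ∏ i ∈ Finset.range m, (2 ^ (2 * (i + 1)) - 1) := by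
  rw [Nat.card_congr e.toEquiv]
  exact Cfsg.Agent.S0245.result hF m

/-- the arithmetic -/
theorem dvd_of_mul {m n k r : ℕ} (hm : 2 ≤ m) (hr : r.Prime) (hr2 : r ≠ 2) (hrd : r ∣ 2 ^ (2 * (m - 1)) - 1)
    (hn : n = 2 ^ (m - 1) * (2 ^ m + 1) ∨ n = 2 ^ (m - 1) * (2 ^ m - 1))
    (h : n * k = 2 ^ (m ^ 2) * ∏ i ∈ Finset.range m, (2 ^ (2 * (i + 1)) - 1)) : r ∣ k := by
  obtain ⟨j, rfl⟩ : ∃ j, m = j + 2 := ⟨m - 2, by omega⟩
  rw [Finset.prod_range_succ, Finset.prod_range_succ] at h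
  have e1 : j + 2 - 1 = j + 1 := rfl
  rw [e1] at hrd hn
  have e2 : 2 ^ (2 * (j + 1 + 1)) - 1 = (2 ^ (j + 2) + 1) * (2 ^ (j + 2) - 1) := by
    rw [two_mul, pow_add]
    exact Nat.mul_self_sub_mul_self_eq (2 ^ (j + 2)) 1
  rw [e2] at h
  have hpos1 : 0 < 2 ^ (j + 2) + 1 := by positivity
  have hpos2 : 0 < 2 ^ (j + 2) - 1 := by
    have : 1 < 2 ^ (j + 2) := Nat.one_lt_two_pow (by omega)
    omega
  have key : ∀ c : ℕ, 2 ^ (j + 1) * k = (2 ^ (j + 2)) ^ (0 : ℕ) * (2 ^ ((j + 2) ^ 2) *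
      ((∏ i ∈ Finset.range j, (2 ^ (2 * (i + 1)) - 1)) * (2 ^ (2 * (j + 1)) - 1) * c)) → r ∣ k := by
    intro c hc
    have h1 : r ∣ 2 ^ (j + 1) * k := by
      rw [hc]
      exact Dvd.dvd.mul_left (Dvd.dvd.mul_left (Dvd.dvd.mul_right (Dvd.dvd.mul_left hrd _) _) _) _
    rcases (Nat.Prime.dvd_mul hr).1 h1 with h2 | h2
    · exact absurd ((Nat.prime_dvd_prime_iff_eq hr Nat.prime_two).1 (hr.dvd_of_dvd_pow h2)) hr2
    · exact h2
  rcases hn with rfl | rfl
  · apply key (2 ^ (j + 2) - 1)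
    apply Nat.eq_of_mul_eq_mul_right hpos1
    rw [pow_zero, one_mul]
    linear_combination h
  · apply key (2 ^ (j + 2) + 1)
    apply Nat.eq_of_mul_eq_mul_right hpos2
    rw [pow_zero, one_mul]
    linear_combination h

theorem card_eight : 2 ^ (4 ^ 2) * ∏ i ∈ Finset.range 4, (2 ^ (2 * (i + 1)) - 1) = 47377612800 := by
  rw [Finset.prod_range_succ, Finset.prod_range_succ, Finset.prod_range_succ, Finset.prod_range_succ,
    Finset.prod_range_zero]
  norm_num

/-- the case `n = 136` -/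
theorem sp8 (A : AS G Ω T) (hSch : Sch ↥T) (a : Ω) {F : Type*} [Field F] [Fintype F] (hF : Fintype.card F = 2)
    (e : T ≃* Matrix.symplecticGroup (Fin 4) F) (hn : Nat.card Ω = 136) : Concl G a := by
  have ht := card_eq hF e
  have h1 := A.card_mul a
  rw [hn, ht] at h1
  rw [card_eight] at h1
  have h2 : Nat.card (stabilizer T a) = 348364800 := by omega
  refine concl_of_prime_sq A hSch a (r := 7) (by norm_num) (fun N hN =>
    dvd_of_comm A hSch a (r := 7) (p₁ := 2) (p₂ := 3) (by norm_num) (by norm_num) (by norm_num) (by norm_num)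
      (by rw [h2]; norm_num) ?_ hN) (by rw [h2]; norm_num)
  rw [h2]
  intro p hp hpd
  have h3 : p ∈ ({2, 3, 5, 7} : Finset ℕ) := by
    have h4 : (348364800 : ℕ) = 2 ^ 13 * (3 ^ 5 * (5 ^ 2 * 7)) := by norm_num
    rw [h4] at hpd
    rcases (Nat.Prime.dvd_mul hp).1 hpd with h | h
    · rw [(Nat.prime_dvd_prime_iff_eq hp (by norm_num)).1 (hp.dvd_of_dvd_pow h)]; decide
    rcases (Nat.Prime.dvd_mul hp).1 h with h | h
    · rw [(Nat.prime_dvd_prime_iff_eq hp (by norm_num)).1 (hp.dvd_of_dvd_pow h)]; decide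
    rcases (Nat.Prime.dvd_mul hp).1 h with h | h
    · rw [(Nat.prime_dvd_prime_iff_eq hp (by norm_num)).1 (hp.dvd_of_dvd_pow h)]; decide
    · rw [(Nat.prime_dvd_prime_iff_eq hp (by norm_num)).1 h]; decide
  fin_cases h3
  · exact Or.inl rfl
  · exact Or.inr (Or.inl rfl)
  · refine Or.inr (Or.inr (Or.inr ⟨fun x y hx hy hxy => ?_, fun j hj hjd => ?_⟩))
    · refine no35 hF (x := e x) (y := e y) ?_ ?_ (hxy.map e)
      · rw [← hx]; exact MulEquiv.orderOf_eq e x
      · rw [← hy]; exact MulEquiv.orderOf_eq e y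
    · have hj3 : j < 3 := by
        by_contra hj3
        have h5 : (5 : ℕ) ^ 3 ∣ 348364800 := (pow_dvd_pow 5 (by omega)).trans hjd
        norm_num at h5
      interval_cases j
      · decide
      · decide
  · exact Or.inr (Or.inr (Or.inl rfl))

/-- the row `sp` -/
theorem sp (A : AS G Ω T) (hSch : Sch ↥T) (a : Ω) {F : Type*} [Field F] [Fintype F] (hF : Fintype.card F = 2)
    {m : ℕ} (hm : 3 ≤ m) (e : Nonempty (T ≃* Cfsg.PSp m F))
    (hn : Nat.card Ω = 2 ^ (m - 1) * (2 ^ m + 1) ∨ Nat.card Ω = 2 ^ (m - 1) * (2 ^ m - 1)) : Concl G a := by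
  obtain ⟨e⟩ := e
  replace e := equivSp hF (by omega) e
  by_cases h4 : m = 4
  · subst h4
    rcases hn with hn | hn
    · exact sp8 A hSch a hF e (by rw [hn]; norm_num)
    · have hn' : Nat.card Ω = 120 := by rw [hn]; norm_num
      have ht := card_eq hF e
      have h1 := A.card_mul a
      rw [hn', ht] at h1
      rw [card_eight] at h1
      have h2 : Nat.card (stabilizer T a) = 394813440 := by omega
      refine gen A hSch a hF e (r := 17) (o := 8) (by norm_num) (by norm_num) ?_ (by norm_num) (by norm_num)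
        (by rw [h2]; norm_num)
      intro k hk hd
      by_contra hlt
      push Not at hlt
      interval_cases k <;> revert hk hd <;> decide
  · obtain ⟨r, hr, hrd, -, hr2⟩ := Cfsg.Agent.Lib.Zsigmondy.exists_primitive (a := 2) (n := 2 * (m - 1)) le_rfl
      (by omega) (fun h => by omega) (fun h => h4 (by omega))
    have hr2' : r ≠ 2 := fun h => hr2 (h.symm ▸ dvd_refl 2)
    refine gen A hSch a hF e hr hr2' (o := 2 * (m - 1)) ?_ (by omega) (by omega) ?_
    · intro k hk hd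
      exact Nat.le_of_dvd (Nat.pos_of_ne_zero hk) ((hrd k).1 hd)
    · refine dvd_of_mul (by omega) hr hr2' ((hrd _).2 dvd_rfl) hn ?_
      rw [A.card_mul a]
      exact card_eq hF e

end Cfsg.Agent.H347.Aff.Spm
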