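import Cfsg.Agent.H347.Aff.Crit
import Cfsg.Agent.H248.Dich

/-!
# Point stabilizers of almost simple 2-transitive groups: degree prime to the characteristic (helper347)

* `concl_of_pCore` : `O_p(T_a) ≠ 1` implies that `G_a` is a local subgroup;
* `concl_of_dich` : `Dich p T` (`T` of Lie type in characteristic `p`) and `p ∤ |Ω|`.
-/

set_option autoImplicit false

namespace Cfsg.Agent.H347.Aff

open MulAction Cfsg.Agent.H384.TwoTrans Cfsg.Agent.Lib Cfsg.Agent.Schreier.Basic Cfsg.Agent.H248.Ovg

universe u v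

variable {G : Type u} {Ω : Type v} [Group G] [MulAction G Ω] {T : Subgroup G}

theorem concl_of_pCore (A : AS G Ω T) (a : Ω) {p : ℕ} (hp : p.Prime)
    (h : Cfsg.pCore p (stabilizer T a) ≠ ⊥) : Concl G a := by
  have := A.finG
  have := A.finT
  have := A.normal
  have : Fact p.Prime := ⟨hp⟩
  let K : Subgroup (stabilizer G a) := T.subgroupOf (stabilizer G a)
  have hK : K.Normal := inferInstance
  let e : stabilizer T a ≃* K :=
    { toFun := fun t => ⟨⟨((t : T) : G), t.2⟩, (t : T).2⟩
      invFun := fun k => ⟨⟨((k : stabilizer G a) : G), k.2⟩, (k : stabilizer G a).2⟩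
      left_inv := fun _ => rfl
      right_inv := fun _ => rfl
      map_mul' := fun _ _ => rfl }
  have h1 : Cfsg.pCore p K ≠ ⊥ := by
    rw [← Cores.map_equiv_pCore e p]
    intro h2
    exact h ((Subgroup.map_eq_bot_iff_of_injective _ e.injective).1 h2)
  have h2 : Cfsg.pCore p (stabilizer G a) ≠ ⊥ := by
    intro h3
    apply h1
    have h4 := Cores.map_subtype_pCore p hK
    rw [h3, inf_bot_eq] at h4
    exact (Subgroup.map_eq_bot_iff_of_injective _ K.subtype_injective).1 h4
  exact of_pgroup A a hp _ (Cores.pCore_normal p) (Cores.pCore_isPGroup p) h2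

theorem concl_of_dich (A : AS G Ω T) (a : Ω) {p : ℕ} (hp : p.Prime) (hD : Dich p T)
    (hn : ¬ p ∣ Nat.card Ω) : Concl G a := by
  have := A.finT
  have : Fact p.Prime := ⟨hp⟩
  refine concl_of_pCore A a hp fun h => ?_
  have h1 := hD.eq_top (stabilizer T a) h (by rwa [A.index_stabilizer])
  have h2 := A.index_stabilizer a
  rw [h1, Subgroup.index_top] at h2
  have h5 := A.five_le
  omega

end Cfsg.Agent.H347.Aff
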