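import Cfsg.Agent.H347.Aff.Crit

/-!
# Point stabilizers of almost simple 2-transitive groups: small degrees (helper347)
-/

set_option autoImplicit false

namespace Cfsg.Agent.H347.Aff

open MulAction Cfsg.Agent.H384.TwoTrans Cfsg.Agent.Schreier.Basic

universe u v

variable {G : Type u} {Ω : Type v} [Group G] [MulAction G Ω] {T : Subgroup G}

theorem concl_num (A : AS G Ω T) (hSch : Sch ↥T) (a : Ω) (n t r : ℕ) (hn : Nat.card Ω = n)
    (ht : Nat.card T = t) (hr : r.Prime) (hn1 : n - 1 ≠ 0) (h1 : ∀ d ∈ (n - 1).divisors, 5 ≤ d → r ∣ d)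
    (h2 : ¬ n * r ^ 2 ∣ t) : Concl G a := by
  subst hn ht
  refine concl_of_degree A hSch a hr (fun d hd h5 => h1 d (Nat.mem_divisors.2 ⟨hd, hn1⟩) h5) fun h => h2 ?_
  rw [← A.card_mul a]
  exact Nat.mul_dvd_mul_left _ h

theorem psl2_8 (A : AS G Ω T) (hSch : Sch ↥T) (a : Ω) (hn : Nat.card Ω = 28) (ht : Nat.card T = 504) :
    Concl G a := by
  have := A.finT
  refine concl_of_solvable A hSch a (Cfsg.Agent.LieClassical.Order72.isSolvable_of_card_dvd ?_)
  have h1 := A.card_mul a
  rw [hn, ht] at h1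
  have h2 : Nat.card (stabilizer T a) = 18 := by omega
  rw [h2]
  norm_num

theorem psl2_9 (A : AS G Ω T) (hSch : Sch ↥T) (a : Ω) (hn : Nat.card Ω = 6) (ht : Nat.card T = 360) :
    Concl G a :=
  concl_num A hSch a 6 360 5 hn ht (by norm_num) (by norm_num) (by decide) (by norm_num)

theorem psl2_11 (A : AS G Ω T) (hSch : Sch ↥T) (a : Ω) (hn : Nat.card Ω = 11) (ht : Nat.card T = 660) :
    Concl G a :=
  concl_num A hSch a 11 660 5 hn ht (by norm_num) (by norm_num) (by decide) (by norm_num)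

theorem psl4_2 (A : AS G Ω T) (hSch : Sch ↥T) (a : Ω) (hn : Nat.card Ω = 8) (ht : Nat.card T = 20160) :
    Concl G a :=
  concl_num A hSch a 8 20160 7 hn ht (by norm_num) (by norm_num) (by decide) (by norm_num)

theorem a7 (A : AS G Ω T) (hSch : Sch ↥T) (a : Ω) (hn : Nat.card Ω = 15) (ht : Nat.card T = 2520) :
    Concl G a :=
  concl_num A hSch a 15 2520 7 hn ht (by norm_num) (by norm_num) (by decide) (by norm_num)

theorem m11 (A : AS G Ω T) (hSch : Sch ↥T) (a : Ω) (hn : Nat.card Ω = 11) (ht : Nat.card T = 7920) :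
    Concl G a :=
  concl_num A hSch a 11 7920 5 hn ht (by norm_num) (by norm_num) (by decide) (by norm_num)

theorem m11' (A : AS G Ω T) (hSch : Sch ↥T) (a : Ω) (hn : Nat.card Ω = 12) (ht : Nat.card T = 7920) :
    Concl G a :=
  concl_num A hSch a 12 7920 11 hn ht (by norm_num) (by norm_num) (by decide) (by norm_num)

theorem m12 (A : AS G Ω T) (hSch : Sch ↥T) (a : Ω) (hn : Nat.card Ω = 12) (ht : Nat.card T = 95040) :
    Concl G a :=
  concl_num A hSch a 12 95040 11 hn ht (by norm_num) (by norm_num) (by decide) (by norm_num)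

theorem m22 (A : AS G Ω T) (hSch : Sch ↥T) (a : Ω) (hn : Nat.card Ω = 22) (ht : Nat.card T = 443520) :
    Concl G a :=
  concl_num A hSch a 22 443520 7 hn ht (by norm_num) (by norm_num) (by decide) (by norm_num)

theorem m23 (A : AS G Ω T) (hSch : Sch ↥T) (a : Ω) (hn : Nat.card Ω = 23) (ht : Nat.card T = 10200960) :
    Concl G a :=
  concl_num A hSch a 23 10200960 11 hn ht (by norm_num) (by norm_num) (by decide) (by norm_num)

theorem m24 (A : AS G Ω T) (hSch : Sch ↥T) (a : Ω) (hn : Nat.card Ω = 24) (ht : Nat.card T = 244823040) :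
    Concl G a :=
  concl_num A hSch a 24 244823040 23 hn ht (by norm_num) (by norm_num) (by decide) (by norm_num)

end Cfsg.Agent.H347.Aff
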