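import Cfsg.Agent.H347.Aff.Spor
import Cfsg.Agent.H347.Aff.Num
import Cfsg.Agent.H347.Aff.Alt
import Cfsg.Agent.H347.Aff.Local
import Cfsg.Agent.H248.RankOneFam
import Cfsg.Agent.H248.DichRGD
import Cfsg.Agent.Nodes.RGDClass
import Cfsg.Agent.NotCT.Orders
import Cfsg.Agent.S0243

/-!
# Point stabilizers of the 2-transitive groups with non-abelian socle: assembly (helper347)
-/

set_option autoImplicit false

namespace Cfsg.Agent.H347.Aff.Asm

open MulAction Cfsg Cfsg.Agent.H384.TwoTrans Cfsg.Agent.Schreier.Basic Cfsg.Agent.H248.Ovg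

universe u v

variable {G : Type u} {Ω : Type v} [Group G] [MulAction G Ω] {T : Subgroup G}

theorem card_psl {X : Type*} [Group X] {F : Type*} [Field F] [Fintype F] {q d : ℕ} (hF : Fintype.card F = q)
    (hd : 2 ≤ d) (e : Nonempty (X ≃* Matrix.ProjectiveSpecialLinearGroup (Fin d) F)) :
    Nat.gcd d (q - 1) * ((q - 1) * Nat.card X) = ∏ i : Fin d, (q ^ d - q ^ (i : ℕ)) := by
  obtain ⟨e⟩ := e
  rw [Nat.card_congr e.toEquiv]
  exact Cfsg.Agent.S0243.result hF d hd

theorem psl (A : AS G Ω T) (a : Ω) (F : Type) [Field F] [Fintype F] (d : ℕ) (hd : 2 ≤ d)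
    (hd2 : d = 2 → 4 ≤ Fintype.card F) (e : Nonempty (T ≃* Matrix.ProjectiveSpecialLinearGroup (Fin d) F))
    (hn : Nat.card Ω * (Fintype.card F - 1) = Fintype.card F ^ d - 1) : Concl G a := by
  obtain ⟨p, hchar⟩ := CharP.exists F
  obtain ⟨f, hp, hf⟩ := FiniteField.card F p
  have : Fact p.Prime := ⟨hp⟩
  have := A.finT
  refine concl_of_dich A a hp (dich_of_hasRGD (Cfsg.Agent.Nodes.RGDClass.hasRGD_of_PSL
    ⟨F, inferInstance, inferInstance, hchar, d, hd, hd2, e⟩)) fun h => ?_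
  have h1 : p ∣ Fintype.card F ^ d - 1 := hn ▸ Dvd.dvd.mul_right h _
  have h2 : p ∣ Fintype.card F ^ d := by
    rw [hf, ← pow_mul]
    exact dvd_pow_self p (by have := f.pos; positivity)
  have h3 : p ∣ Fintype.card F ^ d - (Fintype.card F ^ d - 1) := Nat.dvd_sub h2 h1
  have h4 : 0 < Fintype.card F ^ d := by positivity
  rw [Nat.sub_sub_self h4] at h3
  exact hp.one_lt.ne' (Nat.dvd_one.1 h3)

theorem not_dvd_pow_add_one {p q k : ℕ} (hp : p.Prime) (hk : k ≠ 0) (h : p ∣ q) : ¬ p ∣ q ^ k + 1 := by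
  intro h1
  have h2 : p ∣ q ^ k := dvd_pow h hk
  exact hp.one_lt.ne' (Nat.dvd_one.1 ((Nat.dvd_add_right h2).1 h1))

theorem psu (A : AS G Ω T) (a : Ω) (F : Type) [Field F] [Fintype F] (q : ℕ) (hq : 3 ≤ q)
    (hF : Fintype.card F = q ^ 2) (e : Nonempty (T ≃* Cfsg.PSU 3 F q)) (hn : Nat.card Ω = q ^ 3 + 1) :
    Concl G a := by
  obtain ⟨p, hchar⟩ := CharP.exists F
  obtain ⟨f, hp, hf⟩ := FiniteField.card F p
  have : Fact p.Prime := ⟨hp⟩
  have := A.finT
  refine concl_of_dich A a hp (dich_of_hasRGD (Cfsg.Agent.Nodes.RGDClass.hasRGD_of_PSU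
    ⟨F, inferInstance, inferInstance, hchar, 3, q, hF, le_rfl, by omega, e⟩)) ?_
  rw [hn]
  refine not_dvd_pow_add_one hp (by norm_num) ?_
  have h1 : p ∣ q ^ 2 := by
    rw [← hF, hf]
    exact dvd_pow_self p f.pos.ne'
  exact hp.dvd_of_dvd_pow h1

theorem sz (A : AS G Ω T) (a : Ω) (F : Type) [Field F] [Fintype F] (m : ℕ) (hm : 1 ≤ m)
    (hF : Fintype.card F = 2 ^ (2 * m + 1)) (e : Nonempty (T ≃* ↥(Cfsg.Lie.Sz F (2 ^ (m + 1)))))
    (hn : Nat.card Ω = Fintype.card F ^ 2 + 1) : Concl G a := by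
  have := A.finT
  refine concl_of_dich A a Nat.prime_two (dich_sz ⟨F, inferInstance, inferInstance, m, hm, hF, e⟩) ?_
  rw [hn]
  refine not_dvd_pow_add_one Nat.prime_two (by norm_num) ?_
  rw [hF]
  exact dvd_pow_self 2 (by omega)

theorem ree (A : AS G Ω T) (a : Ω) (K : Type) [Field K] [Fintype K] (m : ℕ) (hm : 1 ≤ m)
    (hK : Fintype.card K = 3 ^ (2 * m + 1)) (e : Nonempty (T ≃* ↥(Cfsg.Lie.twistedG2 K (3 ^ m))))
    (hn : Nat.card Ω = Fintype.card K ^ 3 + 1) : Concl G a := by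
  have := A.finT
  refine concl_of_dich A a Nat.prime_three (dich_ree ⟨K, inferInstance, inferInstance, m, hm, hK, e⟩) ?_
  rw [hn]
  refine not_dvd_pow_add_one Nat.prime_three (by norm_num) ?_
  rw [hK]
  exact dvd_pow_self 3 (by omega)

theorem card_alt_seven {X : Type*} [Group X] (e : Nonempty (X ≃* ↥(alternatingGroup (Fin 7)))) :
    Nat.card X = 2520 := by
  obtain ⟨e⟩ := e
  have h := nat_card_alternatingGroup (α := Fin 7)
  have h7 : Nat.factorial 7 = 5040 := by decide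
  rw [Nat.card_eq_fintype_card (α := Fin 7), Fintype.card_fin, h7] at h
  rw [Nat.card_congr e.toEquiv, h]

/-- **The point stabilizers of the groups of the list.** -/
theorem concl (A : AS G Ω T) (hSch : Sch ↥T) (a : Ω) (K : Known2 ↥T (Nat.card Ω)) : Concl G a := by
  have hex : ∃ n, n = Nat.card Ω := ⟨_, rfl⟩
  obtain ⟨n, hn⟩ := hex
  rw [← hn] at K
  cases K with
  | alt _ h5 e => exact alt A hSch a (hn ▸ e)
  | psl F d _ hd hd2 e h => exact psl A a F d hd hd2 e (hn ▸ h)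
  | sp F m _ hF hm e h => exact Spm.sp A hSch a hF hm e (hn ▸ h)
  | psu F q _ hq hF e h => exact psu A a F q hq hF e (hn ▸ h)
  | sz F m _ hm hF e h => exact sz A a F m hm hF e (hn ▸ h)
  | ree F m _ hm hF e h => exact ree A a F m hm hF e (hn ▸ h)
  | psl2_8 F hF e =>
    refine psl2_8 A hSch a hn.symm ?_
    have h := card_psl hF le_rfl e
    norm_num [Fin.prod_univ_succ] at h
    omega
  | psl2_9 F hF e =>
    refine psl2_9 A hSch a hn.symm ?_
    have h := card_psl hF le_rfl e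
    norm_num [Fin.prod_univ_succ] at h
    omega
  | psl2_11 F hF e =>
    refine psl2_11 A hSch a hn.symm ?_
    have h := card_psl hF le_rfl e
    norm_num [Fin.prod_univ_succ] at h
    omega
  | psl4_2 F hF e =>
    refine psl4_2 A hSch a hn.symm ?_
    have h := card_psl hF (by norm_num) e
    norm_num [Fin.prod_univ_succ] at h
    omega
  | a7 e => exact a7 A hSch a hn.symm (card_alt_seven e)
  | m11 h => exact m11 A hSch a hn.symm (NotCT.Orders.m11 h)
  | m11' h => exact m11' A hSch a hn.symm (NotCT.Orders.m11 h)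
  | m12 h => exact m12 A hSch a hn.symm (NotCT.Orders.m12 h)
  | m22 h => exact m22 A hSch a hn.symm (NotCT.Orders.m22 h)
  | m23 h => exact m23 A hSch a hn.symm (NotCT.Orders.m23 h)
  | m24 h => exact m24 A hSch a hn.symm (NotCT.Orders.m24 h)
  | hs h => exact Spor.hs A hSch a h hn.symm (NotCT.Orders.hs h)
  | co3 h => exact Spor.co3 A hSch a h hn.symm (NotCT.Orders.co3 h)

end Cfsg.Agent.H347.Aff.Asm
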