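import Mathlib

/-!
# The diagonal subgroup centralized by an element permuting commuting conjugates (helper347)

* `exists_diag` : `x ^ r = 1`, `r` prime, the conjugates `x ^ i L x ^ (-i)` (`0 ≤ i < r`) of the centerless group `L` commute
  pairwise: an injective homomorphism `δ : L →* C(x)`.
-/

set_option autoImplicit false

namespace Cfsg.Agent.H347.Aff

variable {H : Type*} [Group H] {L : Subgroup H}

theorem exists_diag {x : H} {r : ℕ} (hr : r.Prime) (hx : x ^ r = 1)
    (hcomm : ∀ i, 0 < i → i < r → ∀ l ∈ L, ∀ k ∈ L, Commute l (x ^ i * k * (x ^ i)⁻¹))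
    (hZ : ∀ l ∈ L, (∀ k ∈ L, l * k = k * l) → l = 1) {N : Subgroup H} (hLN : L ≤ N)
    (hxN : ∀ n ∈ N, x * n * x⁻¹ ∈ N) :
    ∃ δ : L →* H, Function.Injective δ ∧ (∀ l, Commute x (δ l)) ∧ ∀ l, δ l ∈ N := by
  classical
  have : Fact r.Prime := ⟨hr⟩
  have : NeZero r := ⟨hr.ne_zero⟩
  let e : ZMod r → ℕ := fun i => i.val
  -- the homomorphisms
  let ϕ : ∀ _ : ZMod r, L →* H := fun i => (MulAut.conj (x ^ i.val)).toMonoidHom.comp L.subtype
  have hϕ : ∀ i (l : L), ϕ i l = x ^ i.val * l * (x ^ i.val)⁻¹ := fun _ _ => rfl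
  have hlt : ∀ i j : ZMod r, i.val < j.val → ∀ l k : L, Commute (ϕ i l) (ϕ j k) := by
    intro i j hij l k
    have h1 := hcomm (j.val - i.val) (by omega) (by have := ZMod.val_lt j; omega) l l.2 k k.2
    have h2 := h1.map (MulAut.conj (x ^ i.val)).toMonoidHom
    have h3 : (MulAut.conj (x ^ i.val)).toMonoidHom (x ^ (j.val - i.val) * (k : H) * (x ^ (j.val - i.val))⁻¹) =
        ϕ j k := by
      change x ^ i.val * (x ^ (j.val - i.val) * (k : H) * (x ^ (j.val - i.val))⁻¹) * (x ^ i.val)⁻¹ =
        x ^ j.val * k * (x ^ j.val)⁻¹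
      have h4 : x ^ j.val = x ^ i.val * x ^ (j.val - i.val) := by rw [← pow_add]; congr 1; omega
      rw [h4]
      group
    rw [h3] at h2
    exact h2
  have hc : Pairwise fun i j : ZMod r => ∀ (l k : L), Commute (ϕ i l) (ϕ j k) := by
    intro i j hij l k
    have hne : i.val ≠ j.val := fun h => hij (ZMod.val_injective r h)
    rcases lt_or_gt_of_ne hne with h | h
    · exact hlt i j h l k
    · exact (hlt j i h k l).symm
  let F : (ZMod r → L) →* H := MonoidHom.noncommPiCoprod ϕ hc
  have hF : ∀ i l, F (Pi.mulSingle i l) = ϕ i l := fun i l => MonoidHom.noncommPiCoprod_mulSingle ϕ i l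
  let c : L →* (ZMod r → L) :=
    { toFun := fun l _ => l
      map_one' := rfl
      map_mul' := fun _ _ => rfl }
  -- the shift
  let s : (ZMod r → L) →* (ZMod r → L) :=
    { toFun := fun f i => f (i - 1)
      map_one' := rfl
      map_mul' := fun _ _ => rfl }
  have hs : ∀ i l, s (Pi.mulSingle i l) = Pi.mulSingle (i + 1) l := by
    intro i l
    ext j
    change ((Pi.mulSingle i l : ZMod r → L) (j - 1) : H) = ((Pi.mulSingle (i + 1) l : ZMod r → L) j : H)
    by_cases h : j = i + 1
    · subst h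
      rw [add_sub_cancel_right, Pi.mulSingle_eq_same, Pi.mulSingle_eq_same]
    · rw [Pi.mulSingle_eq_of_ne h, Pi.mulSingle_eq_of_ne (fun h' => h (by rw [← h']; ring))]
  have hpow : ∀ i : ZMod r, x ^ (i + 1).val = x * x ^ i.val := by
    intro i
    rw [← pow_succ', ← pow_mod_orderOf x (i + 1).val, ← pow_mod_orderOf x (i.val + 1)]
    congr 1
    have h1 : (i + 1).val ≡ i.val + 1 [MOD r] := by
      rw [ZMod.val_add, ZMod.val_one'' hr.one_lt.ne']
      exact Nat.mod_modEq _ _
    exact h1.of_dvd (orderOf_dvd_of_pow_eq_one hx)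
  have hconj : (MulAut.conj x).toMonoidHom.comp F = F.comp s := by
    apply MonoidHom.pi_ext
    intro i l
    rw [MonoidHom.comp_apply, MonoidHom.comp_apply, hs, hF, hF, hϕ, hϕ, hpow]
    change x * (x ^ i.val * (l : H) * (x ^ i.val)⁻¹) * x⁻¹ = _
    group
  have hFN : ∀ f, F f ∈ N := by
    have h1 : F.range ≤ N := by
      rw [MonoidHom.noncommPiCoprod_range]
      refine iSup_le fun i => ?_
      rintro _ ⟨l, rfl⟩
      rw [hϕ]
      have h2 : ∀ k : ℕ, ∀ n ∈ N, x ^ k * n * (x ^ k)⁻¹ ∈ N := by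
        intro k
        induction k with
        | zero => intro n hn; simpa using hn
        | succ k ih =>
          intro n hn
          have h3 := hxN _ (ih n hn)
          have h4 : x ^ (k + 1) * n * (x ^ (k + 1))⁻¹ = x * (x ^ k * n * (x ^ k)⁻¹) * x⁻¹ := by
            rw [pow_succ']; group
          rw [h4]
          exact h3
      exact h2 _ _ (hLN l.2)
    exact fun f => h1 ⟨f, rfl⟩
  refine ⟨F.comp c, ?_, ?_, fun l => hFN _⟩
  · rw [injective_iff_map_eq_one]
    intro l hl
    apply Subtype.ext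
    apply hZ l l.2
    intro k hk
    -- `c l = g * single 0 l`
    let g : ZMod r → L := fun i => if i = 0 then 1 else l
    have h1 : ∀ m : L, g * Pi.mulSingle 0 m = Pi.mulSingle 0 m * g := by
      intro m
      funext i
      by_cases hi : i = 0
      · subst hi
        simp [g]
      · simp [g, hi]
    have h2 : c l = g * Pi.mulSingle 0 l := by
      funext i
      by_cases hi : i = 0
      · subst hi
        simp [g, c]
      · simp [g, c, hi]
    have h3 : F g * (l : H) = 1 := by
      have h4 : F (c l) = 1 := hl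
      rw [h2, map_mul, hF, hϕ, ZMod.val_zero, pow_zero, one_mul, inv_one, mul_one] at h4
      exact h4
    have h5 : F g * k = k * F g := by
      have h6 := congrArg F (h1 ⟨k, hk⟩)
      rw [map_mul, map_mul, hF, hϕ, ZMod.val_zero, pow_zero, one_mul, inv_one, mul_one] at h6
      exact h6
    have h7 : (l : H) = (F g)⁻¹ := (inv_eq_of_mul_eq_one_right h3).symm
    rw [h7]
    exact (Commute.inv_left (h5 : Commute (F g) k)).eq
  · intro l
    have h1 : s (c l) = c l := rfl
    have h2 := congrArg (fun f => f (c l)) hconj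
    have h3 : x * F (c l) * x⁻¹ = F (s (c l)) := h2
    rw [h1] at h3
    exact mul_inv_eq_iff_eq_mul.1 h3

end Cfsg.Agent.H347.Aff
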