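import Cfsg.Agent.H347.Aff.Sp
import Cfsg.Agent.H149.Sp.Leech

/-!
# Point stabilizers of `HS` (176 points) and `Co₃` (276 points) (helper347)
-/

set_option autoImplicit false

namespace Cfsg.Agent.H347.Aff.Spor

open MulAction Cfsg Cfsg.Agent.H384.TwoTrans Cfsg.Agent.Schreier.Basic Cfsg.Agent.H149.Sp

universe u v

variable {G : Type u} {Ω : Type v} [Group G] [MulAction G Ω] {T : Subgroup G}

theorem leechV_ne : Spor.leechV ≠ 0 := by
  intro h
  have h1 := congrArg (fun v : leechLattice => (v : GolayPt → ℤ) none) h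
  have h2 : Spor.vecV none = 0 := h1
  simp [Spor.vecV] at h2

theorem hs57 {X : Type*} [Group X] (h : Spor.IsoHS X) {x y : X} (hx : orderOf x = 7) (hy : orderOf y = 5) :
    ¬ Commute x y := by
  intro hc
  obtain ⟨e⟩ := h
  let f : X →* Co0 := (Subgroup.inclusion (inf_le_left.trans inf_le_left : Spor.HS ≤ Co0)).comp e.toMonoidHom
  have hf : Function.Injective f :=
    (Subgroup.inclusion_injective (inf_le_left.trans inf_le_left : Spor.HS ≤ Co0)).comp e.injective
  refine co0_not_comm_fix (a := f y) (b := f x) leechV_ne ((e y).2.1.2) ((e x).2.1.2) ?_ ?_ ?_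
  · rw [orderOf_injective f hf, hy]
  · rw [orderOf_injective f hf, hx]
  · rw [← map_mul, ← hc.eq, map_mul]

theorem co3_not_comm {X : Type*} [Group X] (h : Spor.IsoCo3 X) {p : ℕ} (hp : p = 5 ∨ p = 7) {x y : X}
    (hx : orderOf x = 11) (hy : orderOf y = p) : ¬ Commute x y := by
  intro hc
  obtain ⟨e⟩ := h
  let f : X →* Co0 := (Subgroup.inclusion (inf_le_left : Spor.Co3 ≤ Co0)).comp e.toMonoidHom
  have hf : Function.Injective f :=
    (Subgroup.inclusion_injective (inf_le_left : Spor.Co3 ≤ Co0)).comp e.injective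
  have hp' : P5 p := by rcases hp with rfl | rfl <;> simp [P5]
  refine co0_not_comm (a := f y) (b := f x) hp' (Or.inr (Or.inr (Or.inl rfl)))
    (by rcases hp with rfl | rfl <;> norm_num) (by norm_num) ?_ ?_ ?_
  · rw [orderOf_injective f hf, hy]
  · rw [orderOf_injective f hf, hx]
  · rw [← map_mul, ← hc.eq, map_mul]

theorem mem_of_dvd {p n : ℕ} {l : List ℕ} (hp : p.Prime) (hl : ∀ q ∈ l, q.Prime) (hn : n ∣ l.prod ^ 20) (h : p ∣ n) :
    p ∈ l := by
  have h1 : p ∣ l.prod := hp.dvd_of_dvd_pow (h.trans hn)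
  obtain ⟨q, hq, hpq⟩ := (Nat.Prime.prime hp).dvd_prod_iff.1 h1
  rwa [(Nat.prime_dvd_prime_iff_eq hp (hl q hq)).1 hpq]

/-- the row `HS` -/
theorem hs (A : AS G Ω T) (hSch : Sch ↥T) (a : Ω) (h : Spor.IsoHS ↥T) (hn : Nat.card Ω = 176)
    (ht : Nat.card T = 44352000) : Concl G a := by
  have h1 := A.card_mul a
  rw [hn, ht] at h1
  have h2 : Nat.card (stabilizer T a) = 252000 := by omega
  refine concl_of_prime_sq A hSch a (r := 7) (by norm_num) (fun N hN =>
    Spm.dvd_of_comm A hSch a (r := 7) (p₁ := 2) (p₂ := 3) (by norm_num) (by norm_num) (by norm_num) (by norm_num)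
      (by rw [h2]; norm_num) ?_ hN) (by rw [h2]; norm_num)
  rw [h2]
  intro p hp hpd
  have h3 : p ∈ [2, 3, 5, 7] :=
    mem_of_dvd hp (by simp only [List.forall_mem_cons]; norm_num) (by norm_num) hpd
  simp only [List.mem_cons, List.not_mem_nil, or_false] at h3
  rcases h3 with rfl | rfl | rfl | rfl
  · exact Or.inl rfl
  · exact Or.inr (Or.inl rfl)
  · refine Or.inr (Or.inr (Or.inr ⟨fun x y hx hy => hs57 h hx hy, fun j hj hjd => ?_⟩))
    have hj3 : j < 4 := by
      by_contra hj3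
      have h5 : (5 : ℕ) ^ 4 ∣ 252000 := (pow_dvd_pow 5 (by omega)).trans hjd
      norm_num at h5
    interval_cases j <;> decide
  · exact Or.inr (Or.inr (Or.inl rfl))

/-- the row `Co₃` -/
theorem co3 (A : AS G Ω T) (hSch : Sch ↥T) (a : Ω) (h : Spor.IsoCo3 ↥T) (hn : Nat.card Ω = 276)
    (ht : Nat.card T = 495766656000) : Concl G a := by
  have h1 := A.card_mul a
  rw [hn, ht] at h1
  have h2 : Nat.card (stabilizer T a) = 1796256000 := by omega
  refine concl_of_prime_sq A hSch a (r := 11) (by norm_num) (fun N hN =>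
    Spm.dvd_of_comm A hSch a (r := 11) (p₁ := 2) (p₂ := 3) (by norm_num) (by norm_num) (by norm_num) (by norm_num)
      (by rw [h2]; norm_num) ?_ hN) (by rw [h2]; norm_num)
  rw [h2]
  intro p hp hpd
  have h3 : p ∈ [2, 3, 5, 7, 11] :=
    mem_of_dvd hp (by simp only [List.forall_mem_cons]; norm_num) (by norm_num) hpd
  simp only [List.mem_cons, List.not_mem_nil, or_false] at h3
  rcases h3 with rfl | rfl | rfl | rfl | rfl
  · exact Or.inl rfl
  · exact Or.inr (Or.inl rfl)
  · refine Or.inr (Or.inr (Or.inr ⟨fun x y hx hy => co3_not_comm h (Or.inl rfl) hx hy, fun j hj hjd => ?_⟩))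
    have hj3 : j < 4 := by
      by_contra hj3
      have h5 : (5 : ℕ) ^ 4 ∣ 1796256000 := (pow_dvd_pow 5 (by omega)).trans hjd
      norm_num at h5
    interval_cases j <;> decide
  · refine Or.inr (Or.inr (Or.inr ⟨fun x y hx hy => co3_not_comm h (Or.inr rfl) hx hy, fun j hj hjd => ?_⟩))
    have hj3 : j < 2 := by
      by_contra hj3
      have h5 : (7 : ℕ) ^ 2 ∣ 1796256000 := (pow_dvd_pow 7 (by omega)).trans hjd
      norm_num at h5
    interval_cases j
    decide
  · exact Or.inr (Or.inr (Or.inl rfl))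

end Cfsg.Agent.H347.Aff.Spor
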