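import Cfsg.Agent.H347.Aff.Lin
import Cfsg.Agent.Schreier.Basic
import Cfsg.Agent.LieClassical.Order72

/-!
# Commuting groups of automorphisms normalized by an element of large prime order (helper347)

`V` a finite elementary abelian 2-group, `r` an odd prime, `2` has order at least `o` modulo `r`:
`Big r o : ∀ k ≠ 0, r ∣ 2 ^ k - 1 → o ≤ k`.

* `fix_or` : an element `x` with `x ^ r = 1` acts trivially on `V` or `2 ^ o |C_V(x)| ≤ |V|`;
* `quotAct`, `subAct` : the action on a quotient, on a subgroup.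
-/

set_option autoImplicit false

namespace Cfsg.Agent.H347.Aff.Two

open MulAction Cfsg.Agent.Schreier.Basic
open scoped commutatorElement

/-- the order of 2 modulo `r` is at least `o` -/
def Big (r o : ℕ) : Prop := ∀ k, k ≠ 0 → r ∣ 2 ^ k - 1 → o ≤ k

section Count

variable {V : Type*} [AddCommGroup V]

theorem card_eq_two_pow [Finite V] (hV : ∀ v : V, v + v = 0) : ∃ k, Nat.card V = 2 ^ k := by
  have : Fact (Nat.Prime 2) := ⟨Nat.prime_two⟩
  have h : IsPGroup 2 (Multiplicative V) := fun v => ⟨1, by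
    rw [pow_one, sq]
    exact hV v.toAdd⟩
  obtain ⟨k, hk⟩ := IsPGroup.iff_card.1 h
  exact ⟨k, hk⟩

variable {Γ : Type*} [Group Γ] [DistribMulAction Γ V]

/-- the fixed points of `x` -/
def fixS (V : Type*) [AddCommGroup V] [DistribMulAction Γ V] (x : Γ) : AddSubgroup V where
  carrier := {v | x • v = v}
  zero_mem' := smul_zero x
  add_mem' := fun {a b} ha hb => by
    change x • (a + b) = a + b
    rw [smul_add, ha, hb]
  neg_mem' := fun {a} ha => by
    change x • (-a) = -a
    rw [smul_neg, ha]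

theorem mem_fixS {x : Γ} {v : V} : v ∈ fixS V x ↔ x • v = v := Iff.rfl

theorem fix_or [Finite V] (hV : ∀ v : V, v + v = 0) {r o : ℕ} (hr : r.Prime) (hr2 : r ≠ 2) (ho : Big r o)
    {x : Γ} (hx : x ^ r = 1) : (∀ v : V, x • v = v) ∨ 2 ^ o * Nat.card (fixS V x) ≤ Nat.card V := by
  by_cases htriv : ∀ v : V, x • v = v
  · exact Or.inl htriv
  right
  have : Fact r.Prime := ⟨hr⟩
  have hpg : IsPGroup r (Subgroup.zpowers x) := by
    rintro ⟨y, k, rfl⟩
    refine ⟨1, Subtype.ext ?_⟩
    rw [pow_one]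
    change (x ^ k) ^ r = 1
    rw [← zpow_natCast, ← zpow_mul, mul_comm, zpow_mul, zpow_natCast, hx, one_zpow]
  have h1 := hpg.card_modEq_card_fixedPoints V
  have h2 : fixedPoints (Subgroup.zpowers x) V = (fixS V x : Set V) := by
    ext v
    constructor
    · intro h
      exact h ⟨x, Subgroup.mem_zpowers x⟩
    · intro (h : x • v = v) ⟨y, k, hk⟩
      have h3 : x ∈ stabilizer Γ v := h
      have h4 : y ∈ stabilizer Γ v := hk ▸ zpow_mem h3 k
      exact h4
  rw [h2] at h1
  obtain ⟨u, hu⟩ := card_eq_two_pow hV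
  obtain ⟨c, hc⟩ := card_eq_two_pow (V := fixS V x) (fun v => Subtype.ext (hV v))
  have h3 : Nat.card (fixS V x : Set V) = 2 ^ c := hc
  have hlt : Nat.card (fixS V x) < Nat.card V := by
    have h5 : fixS V x ≠ ⊤ := by
      intro h6
      apply htriv
      intro v
      have : v ∈ fixS V x := h6 ▸ AddSubgroup.mem_top v
      exact this
    have h7 := AddSubgroup.card_le_card_addGroup (fixS V x)
    refine lt_of_le_of_ne h7 fun h8 => h5 ?_
    exact AddSubgroup.eq_top_of_card_eq _ h8
  rw [hu, h3] at h1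
  rw [hu, hc] at hlt ⊢
  have hcu : c < u := (Nat.pow_lt_pow_iff_right (by norm_num)).1 hlt
  obtain ⟨d, rfl⟩ := Nat.exists_eq_add_of_lt hcu
  have h4 : r ∣ 2 ^ (c + d + 1) - 2 ^ c := (Nat.modEq_iff_dvd' hlt.le).1 h1.symm
  have h5 : 2 ^ (c + d + 1) - 2 ^ c = 2 ^ c * (2 ^ (d + 1) - 1) := by
    rw [Nat.mul_sub, mul_one, ← pow_add, add_assoc]
  rw [h5] at h4
  rcases (Nat.Prime.dvd_mul hr).1 h4 with h6 | h6
  · exfalso
    exact hr2 ((Nat.prime_dvd_prime_iff_eq hr Nat.prime_two).1 (hr.dvd_of_dvd_pow h6))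
  · have h7 := ho (d + 1) (by omega) h6
    rw [← pow_add]
    exact Nat.pow_le_pow_right (by norm_num) (by omega)

/-- a small module has no automorphism of order `r` -/
theorem eq_one_of_small [Finite V] (hV : ∀ v : V, v + v = 0) {r o : ℕ} (hr : r.Prime) (hr2 : r ≠ 2)
    (ho : Big r o) (hlt : Nat.card V < 2 ^ o) {x : Γ} (hx : x ^ r = 1) (v : V) : x • v = v := by
  rcases fix_or hV hr hr2 ho hx with h | h
  · exact h v
  · exfalso
    have h1 : 0 < Nat.card (fixS V x) := Nat.card_pos
    have h2 : 2 ^ o * 1 ≤ 2 ^ o * Nat.card (fixS V x) := Nat.mul_le_mul_left _ h1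
    omega

end Count

section Act

variable {Γ V : Type*} [Group Γ] [AddCommGroup V] [DistribMulAction Γ V]

/-- the action on a quotient -/
@[reducible] def quotAct (U : AddSubgroup V) (hU : ∀ g : Γ, ∀ u ∈ U, g • u ∈ U) : DistribMulAction Γ (V ⧸ U) where
  smul g := QuotientAddGroup.map U U (DistribSMul.toAddMonoidHom V g) (fun u hu => hU g u hu)
  one_smul := by
    rintro ⟨v⟩
    exact congrArg _ (one_smul Γ v)
  mul_smul := by
    rintro g h ⟨v⟩
    exact congrArg _ (mul_smul g h v)
  smul_zero g := map_zero _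
  smul_add g := map_add _

/-- the action on a subgroup -/
@[reducible] def subAct (U : AddSubgroup V) (hU : ∀ g : Γ, ∀ u ∈ U, g • u ∈ U) : DistribMulAction Γ U where
  smul g u := ⟨g • (u : V), hU g u u.2⟩
  one_smul u := Subtype.ext (one_smul Γ (u : V))
  mul_smul g h u := Subtype.ext (mul_smul g h (u : V))
  smul_zero g := Subtype.ext (smul_zero g)
  smul_add g u v := Subtype.ext (smul_add g (u : V) v)

/-- a perfect group acting trivially on `U` and modulo `U` on `v` fixes `v` -/
theorem fix_of_chain {M : Subgroup Γ} (hM : ⁅M, M⁆ = M) {U : AddSubgroup V} (h1 : ∀ m ∈ M, ∀ u ∈ U, m • u = u)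
    {v : V} (h2 : ∀ m ∈ M, m • v - v ∈ U) {m : Γ} (hm : m ∈ M) : m • v = v := by
  let f : M →* Multiplicative V :=
    { toFun := fun m => Multiplicative.ofAdd ((m : Γ) • v - v)
      map_one' := by
        change Multiplicative.ofAdd (((1 : M) : Γ) • v - v) = 1
        rw [OneMemClass.coe_one, one_smul, sub_self]
        rfl
      map_mul' := fun m n => by
        change Multiplicative.ofAdd (((m * n : M) : Γ) • v - v) =
          Multiplicative.ofAdd (((m : Γ) • v - v) + ((n : Γ) • v - v))
        congr 1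
        have h3 := h1 m m.2 _ (h2 n n.2)
        rw [smul_sub, smul_smul] at h3
        rw [Subgroup.coe_mul]
        have h4 : ((m : Γ) * n) • v = (n : Γ) • v - v + (m : Γ) • v := by rw [← h3]; abel
        rw [h4]
        abel }
  have hperf : ⁅(⊤ : Subgroup M), (⊤ : Subgroup M)⁆ = ⊤ := by
    apply Subgroup.map_injective M.subtype_injective
    rw [Subgroup.map_commutator, ← MonoidHom.range_eq_map, Subgroup.range_subtype, hM]
  have h5 : f ⟨m, hm⟩ = 1 := apply_eq_one_of_perfect f hperf (Subgroup.mem_top _)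
  have h6 : m • v - v = 0 := h5
  exact sub_eq_zero.1 h6

/-- a perfect group acts trivially on a module of order at most four -/
theorem fix_of_card_le {M : Subgroup Γ} (hM : ⁅M, M⁆ = M) [Finite V] (hV : Nat.card V ≤ 4) {m : Γ} (hm : m ∈ M)
    (v : V) : m • v = v := by
  have hsol : Group.IsSolvable (Equiv.Perm V) := by
    apply Cfsg.Agent.LieClassical.Order72.isSolvable_of_card_dvd
    rw [Nat.card_perm]
    have : (Nat.card V).factorial ∣ Nat.factorial 4 := Nat.factorial_dvd_factorial hV
    exact this.trans (by norm_num [Nat.factorial])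
  have h1 : MulAction.toPermHom Γ V m = 1 := apply_eq_one_of_perfect (MulAction.toPermHom Γ V) hM hm
  exact congrArg (fun f : Equiv.Perm V => f v) h1

end Act

end Cfsg.Agent.H347.Aff.Two
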