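import Cfsg.Agent.H347.Aff.TwoA

/-!
# Commuting groups of automorphisms normalized by an element of large prime order, II (helper347)

* `comm_of_irr` : a set of endomorphisms commuting with an irreducible set is commutative (Schur, Wedderburn);
* `trivial_of_central` : a perfect group commuting with `x` of order `r` acts trivially on `V`, if
  `|V| ≤ 2 ^ (o + 2)`, `|V| < 2 ^ (2 o)` and `x` acts nontrivially.
-/

set_option autoImplicit false

namespace Cfsg.Agent.H347.Aff.Two

open MulAction Cfsg.Agent.Schreier.Basic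
open scoped commutatorElement

theorem comm_of_irr {V : Type*} [AddCommGroup V] [Finite V] {A B : Set (AddMonoid.End V)}
    (hA : ∀ U : AddSubgroup V, (∀ a ∈ A, ∀ u ∈ U, a u ∈ U) → U = ⊥ ∨ U = ⊤)
    (hAB : ∀ a ∈ A, ∀ b ∈ B, a * b = b * a) {b b' : AddMonoid.End V} (hb : b ∈ B) (hb' : b' ∈ B) :
    b * b' = b' * b := by
  refine comm_of_noZero (Subring.closure B) ?_ (Subring.subset_closure hb) (Subring.subset_closure hb')
  intro r hr v hv hrv
  have hcomm : ∀ a ∈ A, r * a = a * r := by
    intro a ha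
    have h1 : Subring.closure B ≤ Subring.centralizer {a} := by
      rw [Subring.closure_le]
      intro c hc
      rw [SetLike.mem_coe, Subring.mem_centralizer_iff]
      intro d hd
      rw [Set.mem_singleton_iff.1 hd]
      exact hAB a ha c hc
    exact ((Subring.mem_centralizer_iff.1 (h1 hr)) a rfl).symm
  rcases hA (AddMonoidHom.ker (show V →+ V from r)) (fun a ha u hu => by
    have hu' : r u = 0 := hu
    change r (a u) = 0
    have h2 := congrArg (fun f : AddMonoid.End V => f u) (hcomm a ha)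
    have h3 : r (a u) = a (r u) := h2
    rw [h3, hu', map_zero]) with h | h
  · exfalso
    apply hv
    have h1 : v ∈ AddMonoidHom.ker (show V →+ V from r) := hrv
    rw [h, AddSubgroup.mem_bot] at h1
    exact h1
  · ext u
    have h1 : u ∈ AddMonoidHom.ker (show V →+ V from r) := h ▸ AddSubgroup.mem_top u
    exact h1

variable {Γ V : Type*} [Group Γ] [AddCommGroup V] [DistribMulAction Γ V]

/-- a perfect group acting commutatively on the elements of `S` fixes them -/
theorem fix_of_comm {M : Subgroup Γ} (hM : ⁅M, M⁆ = M) {S : Set V} (hS : ∀ m ∈ M, ∀ s ∈ S, m • s ∈ S)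
    (hc : ∀ m ∈ M, ∀ n ∈ M, ∀ s ∈ S, (m * n) • s = (n * m) • s) {m : Γ} (hm : m ∈ M) {s : V} (hs : s ∈ S) :
    m • s = s := by
  have h1 : ⁅M, M⁆ ≤ fixingSubgroup Γ S := by
    rw [Subgroup.commutator_le]
    intro g hg k hk
    rw [mem_fixingSubgroup_iff]
    intro y hy
    have h2 := hc (g : Γ) hg k hk (g⁻¹ • k⁻¹ • y) (hS _ (inv_mem hg) _ (hS _ (inv_mem hk) _ hy))
    rw [commutatorElement_def, mul_smul, mul_smul, mul_smul]
    rw [mul_smul, mul_smul] at h2
    rw [h2]
    rw [smul_inv_smul, smul_inv_smul]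
  rw [hM] at h1
  exact (mem_fixingSubgroup_iff Γ).1 (h1 hm) s hs

theorem trivial_of_central [Finite V] (hV : ∀ v : V, v + v = 0) {r o : ℕ} (hr : r.Prime) (hr2 : r ≠ 2)
    (ho : Big r o) (hV1 : Nat.card V ≤ 2 ^ (o + 2)) (hV2 : Nat.card V < 2 ^ (2 * o)) {x : Γ} (hx : x ^ r = 1)
    (hxc : ∀ g : Γ, g * x = x * g) (hxn : ¬ ∀ v : V, x • v = v) {M : Subgroup Γ} (hM : ⁅M, M⁆ = M) {m : Γ}
    (hm : m ∈ M) (v : V) : m • v = v := by
  have h1 := (fix_or hV hr hr2 ho hx).resolve_left hxn
  have hF : Nat.card (fixS V x) ≤ 4 := by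
    have h2 : 2 ^ o * Nat.card (fixS V x) ≤ 2 ^ o * 4 := by
      calc _ ≤ Nat.card V := h1
        _ ≤ 2 ^ (o + 2) := hV1
        _ = 2 ^ o * 4 := by rw [pow_add]; norm_num
    exact Nat.le_of_mul_le_mul_left h2 (by positivity)
  have hinv : ∀ g : Γ, ∀ u ∈ fixS V x, g • u ∈ fixS V x := by
    intro g u hu
    rw [mem_fixS] at hu ⊢
    rw [smul_smul, ← hxc, mul_smul, hu]
  have hMF : ∀ m ∈ M, ∀ u ∈ fixS V x, m • u = u := by
    intro m hm u hu
    let _ := subAct (fixS V x) hinv
    have h3 := fix_of_card_le (V := fixS V x) hM hF hm ⟨u, hu⟩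
    exact congrArg Subtype.val h3
  refine fix_of_chain hM hMF (fun m hm => ?_) hm
  -- the quotient
  let _ := quotAct (fixS V x) hinv
  have hW2 : ∀ w : V ⧸ fixS V x, w + w = 0 := by
    rintro ⟨w⟩
    have h3 := congrArg (QuotientAddGroup.mk' (fixS V x)) (hV w)
    rw [map_add, map_zero] at h3
    exact h3
  have hmk : ∀ (g : Γ) (w : V), g • (QuotientAddGroup.mk' (fixS V x) w) = QuotientAddGroup.mk' (fixS V x) (g • w) :=
    fun _ _ => rfl
  -- no fixed points of `x`
  have hfree : ∀ w : V ⧸ fixS V x, x • w = w → w = 0 := by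
    intro w hw
    obtain ⟨u, rfl⟩ := QuotientAddGroup.mk'_surjective _ w
    rw [hmk] at hw
    have h4 : x • u - u ∈ fixS V x := by
      rw [← QuotientAddGroup.eq_zero_iff]
      have h5 := sub_eq_zero.2 hw
      rw [← map_sub] at h5
      exact h5
    have h6 : ∀ k : ℕ, x ^ k • u = u + k • (x • u - u) := by
      intro k
      induction k with
      | zero => rw [pow_zero, one_smul, zero_smul, add_zero]
      | succ k ih =>
        have h8 : x • (x • u - u) = x • u - u := h4
        have h9 : x • (k • (x • u - u)) = k • (x • u - u) := by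
          rw [smul_comm, h8]
        rw [pow_succ', mul_smul, ih, smul_add, h9, succ_nsmul]
        abel
    have h7 := h6 r
    rw [hx, one_smul] at h7
    have h8 : r • (x • u - u) = 0 := (left_eq_add.1 h7)
    obtain ⟨k, hk⟩ := hr.odd_of_ne_two hr2
    have h9 : x • u - u = 0 := by
      have h10 : (2 * k) • (x • u - u) = 0 := by
        rw [mul_comm, mul_nsmul', two_nsmul, hV, nsmul_zero]
      rw [hk, add_nsmul, h10, zero_add, one_nsmul] at h8
      exact h8
    have h10 : u ∈ fixS V x := sub_eq_zero.1 h9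
    exact (QuotientAddGroup.eq_zero_iff u).2 h10
  have hcard : Nat.card (V ⧸ fixS V x) < 2 ^ (2 * o) :=
    (Nat.card_le_card_of_surjective _ (QuotientAddGroup.mk'_surjective (fixS V x))).trans_lt hV2
  -- irreducibility
  have hirr : ∀ U : AddSubgroup (V ⧸ fixS V x), (∀ u ∈ U, x • u ∈ U) → U = ⊥ ∨ U = ⊤ := by
    intro U hU
    by_cases hbot : U = ⊥
    · exact Or.inl hbot
    right
    have hUz : ∀ g : Subgroup.zpowers x, ∀ u ∈ U, g • u ∈ U := by
      have h11 : ∀ k : ℕ, ∀ u ∈ U, x ^ k • u ∈ U := by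
        intro k
        induction k with
        | zero => intro u hu; rwa [pow_zero, one_smul]
        | succ k ih => intro u hu; rw [pow_succ', mul_smul]; exact hU _ (ih u hu)
      rintro ⟨g, hg⟩ u hu
      have hfo : IsOfFinOrder x := isOfFinOrder_iff_pow_eq_one.2 ⟨r, hr.pos, hx⟩
      obtain ⟨k, hk⟩ := (hfo.mem_powers_iff_mem_zpowers).2 hg
      have h12 : g = x ^ k := hk.symm
      subst h12
      exact h11 k u hu
    let xz : Subgroup.zpowers x := ⟨x, Subgroup.mem_zpowers x⟩
    have hxz : xz ^ r = 1 := Subtype.ext hx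
    let _ := subAct (Γ := Subgroup.zpowers x) U hUz
    have hU2 : ∀ u : U, u + u = 0 := fun u => Subtype.ext (hW2 u)
    have h12 : 2 ^ o ≤ Nat.card U := by
      rcases fix_or (V := U) hU2 hr hr2 ho hxz with h | h
      · exfalso
        apply hbot
        rw [AddSubgroup.eq_bot_iff_forall]
        intro u hu
        exact hfree u (congrArg Subtype.val (h ⟨u, hu⟩))
      · refine le_trans ?_ h
        have : 0 < Nat.card (fixS U xz) := Nat.card_pos
        exact Nat.le_mul_of_pos_right _ this
    let _ := quotAct (Γ := Subgroup.zpowers x) U hUz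
    have h13 : Nat.card ((V ⧸ fixS V x) ⧸ U) < 2 ^ o := by
      have h14 := AddSubgroup.card_eq_card_quotient_mul_card_addSubgroup U
      by_contra hcon
      push Not at hcon
      have h15 : 2 ^ o * 2 ^ o ≤ Nat.card (V ⧸ fixS V x) := by
        rw [h14]
        exact Nat.mul_le_mul hcon h12
      rw [← pow_add, ← two_mul] at h15
      omega
    have hQ2 : ∀ w : (V ⧸ fixS V x) ⧸ U, w + w = 0 := by
      intro w
      obtain ⟨u, rfl⟩ := QuotientAddGroup.mk'_surjective _ w
      rw [← map_add, hW2, map_zero]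
    have h14 : ∀ w : V ⧸ fixS V x, x • w - w ∈ U := by
      intro w
      have h15 := eq_one_of_small hQ2 hr hr2 ho h13 hxz (QuotientAddGroup.mk' U w)
      have h16 : QuotientAddGroup.mk' U (x • w) = QuotientAddGroup.mk' U w := h15
      have h17 := sub_eq_zero.2 h16
      rw [← map_sub] at h17
      exact (QuotientAddGroup.eq_zero_iff _).1 h17
    have hinj : Function.Injective (fun w : V ⧸ fixS V x => (⟨x • w - w, h14 w⟩ : U)) := by
      intro w w' hww
      have h15 : x • w - w = x • w' - w' := congrArg Subtype.val hww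
      have h16 : x • (w - w') = w - w' := by
        rw [smul_sub]
        rw [sub_eq_sub_iff_add_eq_add] at h15 ⊢
        rw [h15, add_comm]
      exact sub_eq_zero.1 (hfree _ h16)
    have h15 := Nat.card_le_card_of_injective _ hinj
    exact AddSubgroup.eq_top_of_card_eq _ (le_antisymm (AddSubgroup.card_le_card_addGroup U) h15)
  have hMW : ∀ w : V ⧸ fixS V x, m • w = w := by
    intro w
    refine fix_of_comm (M := M) hM (S := (Set.univ : Set (V ⧸ fixS V x))) (fun _ _ _ _ => Set.mem_univ _) ?_ hm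
      (Set.mem_univ w)
    intro a ha b hb s _
    have h15 := comm_of_irr (A := {(endo x : AddMonoid.End (V ⧸ fixS V x))})
      (B := {f | ∃ m ∈ M, (endo m : AddMonoid.End (V ⧸ fixS V x)) = f}) (fun U hU => hirr U fun u hu =>
        hU _ rfl u hu) (by
      rintro _ rfl _ ⟨c, hc, rfl⟩
      rw [← endo_mul, ← endo_mul, hxc]) ⟨a, ha, rfl⟩ ⟨b, hb, rfl⟩
    rw [← endo_mul, ← endo_mul] at h15
    exact congrArg (fun f : AddMonoid.End (V ⧸ fixS V x) => f s) h15
  have h16 := sub_eq_zero.2 (hMW (QuotientAddGroup.mk' (fixS V x) v))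
  rw [hmk, ← map_sub] at h16
  exact (QuotientAddGroup.eq_zero_iff _).1 h16

end Cfsg.Agent.H347.Aff.Two
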