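import Cfsg.Agent.H347.Aff.TwoC

/-!
# Commuting groups of automorphisms normalized by an element of large prime order, IV (helper347)

* `commute_of_normal` : `Γ` acts faithfully on the elementary abelian 2-group `V`, `|V| ≤ 2 ^ (o + 2)`,
  `|V| < 2 ^ (2 o)`; `L ⊴ Γ` nonabelian simple, `M ≠ 1` perfect commuting with `L`, `x ^ r = 1`: then `x` commutes
  with `L`.
-/

set_option autoImplicit false

namespace Cfsg.Agent.H347.Aff.Two

open MulAction Cfsg.Agent.Schreier.Basic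
open scoped commutatorElement

section

variable {Γ W : Type*} [Group Γ] [AddCommGroup W] [DistribMulAction Γ W]

theorem rg_apply_mem {L : Subgroup Γ} {U : AddSubgroup W} (hU : ∀ l ∈ L, ∀ u ∈ U, l • u ∈ U)
    {ρ : AddMonoid.End W} (hρ : ρ ∈ rg W L) {u : W} (hu : u ∈ U) : ρ u ∈ U := by
  rw [rg] at hρ
  induction hρ using Subring.closure_induction generalizing u with
  | mem x hx =>
    obtain ⟨l, hl, rfl⟩ := hx
    exact hU l hl u hu
  | zero => exact zero_mem _
  | one => exact hu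
  | add x y _ _ hx hy => exact add_mem (hx hu) (hy hu)
  | neg x _ hx => exact neg_mem (hx hu)
  | mul x y _ _ hx hy => exact hx (hy hu)

/-- an invariant subgroup as a submodule -/
def toSub {L : Subgroup Γ} (U : AddSubgroup W) (hU : ∀ l ∈ L, ∀ u ∈ U, l • u ∈ U) : Submodule (rg W L) W where
  carrier := U
  zero_mem' := zero_mem U
  add_mem' := fun ha hb => add_mem ha hb
  smul_mem' := fun ρ _ hw => rg_apply_mem hU ρ.2 hw

theorem mem_toSub {L : Subgroup Γ} {U : AddSubgroup W} {hU : ∀ l ∈ L, ∀ u ∈ U, l • u ∈ U} {w : W} :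
    w ∈ toSub U hU ↔ w ∈ U := Iff.rfl

variable {L : Subgroup Γ} [hL : L.Normal]

theorem card_mapx {y : Γ} {S : Submodule (rg W L) W} : Nat.card (mapx y S) = Nat.card S := by
  refine Nat.card_congr
    { toFun := fun w => ⟨y⁻¹ • (w : W), w.2⟩
      invFun := fun s => ⟨y • (s : W), by rw [mem_mapx, inv_smul_smul]; exact s.2⟩
      left_inv := fun w => Subtype.ext (smul_inv_smul y (w : W))
      right_inv := fun s => Subtype.ext (inv_smul_smul y (s : W)) }

omit hL in
theorem card_mul_card_le [Finite W] {S T : Submodule (rg W L) W} (h : S ⊓ T = ⊥) :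
    Nat.card S * Nat.card T ≤ Nat.card W := by
  rw [← Nat.card_prod]
  refine Nat.card_le_card_of_injective (fun z : S × T => (z.1 : W) + z.2) ?_
  rintro ⟨s, t⟩ ⟨s', t'⟩ hz
  have h1 : (s : W) + t = s' + t' := hz
  have h2 : (s : W) - s' = t' - t := by rw [sub_eq_sub_iff_add_eq_add, h1, add_comm]
  have h3 : (s : W) - s' ∈ S ⊓ T := ⟨sub_mem s.2 s'.2, by
    rw [SetLike.mem_coe, h2]; exact sub_mem t'.2 t.2⟩
  rw [h, Submodule.mem_bot] at h3
  rw [h3] at h2
  exact Prod.ext (Subtype.ext (sub_eq_zero.1 h3)) (Subtype.ext (sub_eq_zero.1 h2.symm).symm)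

omit hL in
/-- a group commuting with `L` and normalizing the simple submodule `S` acts trivially on it, if it is perfect -/
theorem trivial_on_simple [Finite W] {S : Submodule (rg W L) W} (hS : IsAtom S) {M : Subgroup Γ}
    (hM : ⁅M, M⁆ = M) (hLM : ∀ l ∈ L, ∀ m ∈ M, l * m = m * l) (hMS : ∀ m ∈ M, ∀ s ∈ S, m • s ∈ S) {m : Γ}
    (hm : m ∈ M) {s : W} (hs : s ∈ S) : m • s = s := by
  have hSL : ∀ l ∈ L, ∀ s ∈ S, l • s ∈ S := fun l hl s hs =>
    S.smul_mem (⟨endo l, endo_mem hl⟩ : rg W L) hs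
  let Δ : Subgroup Γ :=
    { carrier := {g | (∀ s ∈ S, g • s ∈ S) ∧ ∀ s ∈ S, g⁻¹ • s ∈ S}
      one_mem' := ⟨fun s hs => by rwa [one_smul], fun s hs => by rwa [inv_one, one_smul]⟩
      mul_mem' := fun {a b} ha hb => ⟨fun s hs => by rw [mul_smul]; exact ha.1 _ (hb.1 s hs),
        fun s hs => by rw [mul_inv_rev, mul_smul]; exact hb.2 _ (ha.2 s hs)⟩
      inv_mem' := fun {a} ha => ⟨ha.2, fun s hs => by rw [inv_inv]; exact ha.1 s hs⟩ }
  have hLΔ : L ≤ Δ := fun l hl => ⟨hSL l hl, hSL _ (inv_mem hl)⟩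
  have hMΔ : M ≤ Δ := fun m hm => ⟨hMS m hm, hMS _ (inv_mem hm)⟩
  let _ : DistribMulAction Δ S.toAddSubgroup := subAct (Γ := Δ) S.toAddSubgroup fun g u hu => g.2.1 u hu
  refine fix_of_comm hM (S := (S : Set W)) (fun m hm s hs => hMS m hm s hs) ?_ hm hs
  intro a ha b hb s hs
  have h1 := comm_of_irr (V := S.toAddSubgroup)
    (A := {f | ∃ d : Δ, (d : Γ) ∈ L ∧ (endo d : AddMonoid.End S.toAddSubgroup) = f})
    (B := {f | ∃ d : Δ, (d : Γ) ∈ M ∧ (endo d : AddMonoid.End S.toAddSubgroup) = f}) ?_ ?_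
    ⟨⟨a, hMΔ ha⟩, ha, rfl⟩ ⟨⟨b, hMΔ hb⟩, hb, rfl⟩
  · rw [mul_smul, mul_smul]
    exact congrArg (fun f : AddMonoid.End S.toAddSubgroup => ((f ⟨s, hs⟩ : S.toAddSubgroup) : W)) h1
  · intro U hU
    have hU1 : ∀ l ∈ L, ∀ u ∈ U.map S.toAddSubgroup.subtype, l • u ∈ U.map S.toAddSubgroup.subtype := by
      rintro l hl _ ⟨u, hu, rfl⟩
      exact ⟨_, hU _ ⟨⟨l, hLΔ hl⟩, hl, rfl⟩ u hu, rfl⟩
    have hle : toSub (U.map S.toAddSubgroup.subtype) hU1 ≤ S := by
      rintro _ ⟨u, -, rfl⟩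
      exact u.2
    rcases hS.le_iff.1 hle with h | h
    · left
      rw [AddSubgroup.eq_bot_iff_forall]
      intro u hu
      have h2 : (u : W) ∈ toSub (U.map S.toAddSubgroup.subtype) hU1 := ⟨u, hu, rfl⟩
      rw [h, Submodule.mem_bot] at h2
      exact Subtype.ext h2
    · right
      rw [AddSubgroup.eq_top_iff']
      intro u
      have h2 : (u : W) ∈ toSub (U.map S.toAddSubgroup.subtype) hU1 := by
        rw [h]
        exact u.2
      obtain ⟨v, hv, hvu⟩ := h2
      have h3 : v = u := Subtype.ext hvu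
      rw [← h3]
      exact hv
  · rintro _ ⟨d, hd, rfl⟩ _ ⟨e, he, rfl⟩
    rw [← endo_mul, ← endo_mul]
    congr 1
    exact Subtype.ext (hLM d hd e he)

end

variable {Γ V : Type*} [Group Γ] [AddCommGroup V] [DistribMulAction Γ V]

theorem perfect_top {M : Subgroup Γ} (hM : ⁅M, M⁆ = M) : ⁅(⊤ : Subgroup M), (⊤ : Subgroup M)⁆ = ⊤ := by
  apply Subgroup.map_injective M.subtype_injective
  rw [Subgroup.map_commutator, ← MonoidHom.range_eq_map, Subgroup.range_subtype, hM]

theorem commute_of_normal [FaithfulSMul Γ V] [Finite V] (hV : ∀ v : V, v + v = 0) {r o : ℕ} (hr : r.Prime)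
    (hr2 : r ≠ 2) (ho : Big r o) (hV1 : Nat.card V ≤ 2 ^ (o + 2)) (hV2 : Nat.card V < 2 ^ (2 * o))
    {L : Subgroup Γ} [hL : L.Normal] (hLs : IsSimpleGroup L) (hLp : ⁅L, L⁆ = L) {M : Subgroup Γ}
    (hM : ⁅M, M⁆ = M) (hM1 : M ≠ ⊥) (hLM : ∀ l ∈ L, ∀ m ∈ M, l * m = m * l) {x : Γ} (hx : x ^ r = 1) {l : Γ}
    (hl : l ∈ L) : x * l = l * x := by
  -- the fixed points of `L`
  let Z : AddSubgroup V :=
    { carrier := {v | ∀ l ∈ L, l • v = v}
      zero_mem' := fun l _ => smul_zero l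
      add_mem' := fun {a b} ha hb l hl => by rw [smul_add, ha l hl, hb l hl]
      neg_mem' := fun {a} ha l hl => by rw [smul_neg, ha l hl] }
  have hZ : ∀ v, v ∈ Z ↔ ∀ l ∈ L, l • v = v := fun v => Iff.rfl
  have hZinv : ∀ g : Γ, ∀ u ∈ Z, g • u ∈ Z := by
    intro g u hu l hl
    have h1 := hu (g⁻¹ * l * g) (by have := hL.conj_mem l hl g⁻¹; rwa [inv_inv] at this)
    have h2 : l • g • u = g • (g⁻¹ * l * g) • u := by
      rw [smul_smul, smul_smul]; congr 1; group
    rw [h2, h1]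
  let _ : DistribMulAction Γ (V ⧸ Z) := quotAct Z hZinv
  have hmk : ∀ (g : Γ) (w : V), g • (QuotientAddGroup.mk' Z w) = QuotientAddGroup.mk' Z (g • w) :=
    fun _ _ => rfl
  have hW2 : ∀ w : V ⧸ Z, w + w = 0 := by
    intro w
    obtain ⟨u, rfl⟩ := QuotientAddGroup.mk'_surjective _ w
    rw [← map_add, hV, map_zero]
  have hsub : ∀ {g : Γ} {v : V}, g • (QuotientAddGroup.mk' Z v) = QuotientAddGroup.mk' Z v → g • v - v ∈ Z := by
    intro g v h
    rw [hmk] at h
    have h3 := sub_eq_zero.2 h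
    rw [← map_sub] at h3
    exact (QuotientAddGroup.eq_zero_iff _).1 h3
  have hW0 : ∀ w : V ⧸ Z, (∀ l ∈ L, l • w = w) → w = 0 := by
    intro w hw
    obtain ⟨v, rfl⟩ := QuotientAddGroup.mk'_surjective _ w
    have h1 : v ∈ Z := fun l hl =>
      fix_of_chain hLp (U := Z) (fun m hm u hu => hu m hm) (fun m hm => hsub (hw m hm)) hl
    exact (QuotientAddGroup.eq_zero_iff _).2 h1
  have hnt : Nontrivial (V ⧸ Z) := by
    by_contra hcon
    rw [not_nontrivial_iff_subsingleton] at hcon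
    have h1 : ∀ v, v ∈ Z := fun v => (QuotientAddGroup.eq_zero_iff v).1 (Subsingleton.elim _ _)
    obtain ⟨k, hk⟩ := exists_ne (1 : L)
    apply hk
    apply Subtype.ext
    apply FaithfulSMul.eq_of_smul_eq_smul (α := V)
    intro v
    rw [h1 v k k.2, OneMemClass.coe_one, one_smul]
  have hcW : Nat.card (V ⧸ Z) ≤ Nat.card V :=
    Nat.card_le_card_of_surjective _ (QuotientAddGroup.mk'_surjective Z)
  -- a simple submodule
  have hfinS : Finite (Submodule (rg (V ⧸ Z) L) (V ⧸ Z)) :=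
    Finite.of_injective (fun S : Submodule (rg (V ⧸ Z) L) (V ⧸ Z) => (S : Set (V ⧸ Z))) SetLike.coe_injective
  obtain ⟨S, hS⟩ := IsAtomic.exists_atom (Submodule (rg (V ⧸ Z) L) (V ⧸ Z))
  have hSL : ∀ l ∈ L, ∀ s ∈ S, l • s ∈ S := fun l hl s hs =>
    S.smul_mem (⟨endo l, endo_mem hl⟩ : rg (V ⧸ Z) L) hs
  have hSfix : ¬ ∀ l ∈ L, ∀ s ∈ S, l • s = s := by
    intro h
    apply hS.1
    rw [Submodule.eq_bot_iff]
    intro s hs
    exact hW0 s fun l hl => h l hl s hs
  have hS4 : ¬ Nat.card S ≤ 4 := by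
    intro h4
    apply hSfix
    intro l hl s hs
    let _ : DistribMulAction L S.toAddSubgroup :=
      subAct (Γ := L) S.toAddSubgroup fun g u hu => hSL g g.2 u hu
    have h5 := fix_of_card_le (V := S.toAddSubgroup) (perfect_top hLp) h4 (Subgroup.mem_top ⟨l, hl⟩) ⟨s, hs⟩
    exact congrArg Subtype.val h5
  -- `|S| < 2 ^ o`
  have hSo : Nat.card S < 2 ^ o := by
    by_contra hcon
    push Not at hcon
    have hMS' : ∀ m ∈ M, mapx m S = S := by
      intro m _
      by_contra hne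
      have h1 : S ⊓ mapx m S = ⊥ := by
        by_contra h
        have h2 : S ⊓ mapx m S = S := (hS.le_iff.1 inf_le_left).resolve_left h
        rcases (isAtom_mapx hS).le_iff.1 (inf_eq_left.1 h2) with h4 | h4
        · exact hS.1 h4
        · exact hne h4.symm
      have h2 := card_mul_card_le h1
      rw [card_mapx] at h2
      have h3 : 2 ^ o * 2 ^ o ≤ Nat.card V := (Nat.mul_le_mul hcon hcon).trans (h2.trans hcW)
      rw [← pow_add, ← two_mul] at h3
      omega
    have hMS : ∀ m ∈ M, ∀ s ∈ S, m • s ∈ S := by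
      intro m hm s hs
      rw [← hMS' m⁻¹ (inv_mem hm), mem_mapx, inv_inv] at hs
      exact hs
    have hMt : ∀ m ∈ M, ∀ s ∈ S, m • s = s := fun m hm s hs => trivial_on_simple hS hM hLM hMS hm hs
    have h1 := AddSubgroup.card_eq_card_quotient_mul_card_addSubgroup Z
    have h2 := AddSubgroup.card_eq_card_quotient_mul_card_addSubgroup S.toAddSubgroup
    have h3 : 2 ^ o * (Nat.card ((V ⧸ Z) ⧸ S.toAddSubgroup) * Nat.card Z) ≤ 2 ^ o * 4 := by
      have h4 : Nat.card V = Nat.card S * (Nat.card ((V ⧸ Z) ⧸ S.toAddSubgroup) * Nat.card Z) := by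
        rw [h1, h2]
        change _ * Nat.card S * _ = _
        ring
      calc _ ≤ Nat.card S * (Nat.card ((V ⧸ Z) ⧸ S.toAddSubgroup) * Nat.card Z) := Nat.mul_le_mul_right _ hcon
        _ = Nat.card V := h4.symm
        _ ≤ 2 ^ (o + 2) := hV1
        _ = 2 ^ o * 4 := by rw [pow_add]; norm_num
    have h4 := Nat.le_of_mul_le_mul_left h3 (by positivity)
    have hp1 : 0 < Nat.card ((V ⧸ Z) ⧸ S.toAddSubgroup) := Nat.card_pos
    have hp2 : 0 < Nat.card Z := Nat.card_pos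
    have h5 : Nat.card Z ≤ 4 := (Nat.le_mul_of_pos_left _ hp1).trans h4
    have h6 : Nat.card ((V ⧸ Z) ⧸ S.toAddSubgroup) ≤ 4 := (Nat.le_mul_of_pos_right _ hp2).trans h4
    -- `M` acts trivially on the quotient by `S`
    have h7 : ∀ m ∈ M, ∀ w : V ⧸ Z, m • w = w := by
      intro m hm w
      refine fix_of_chain hM (U := S.toAddSubgroup) hMt (fun m hm => ?_) hm
      let _ : DistribMulAction M ((V ⧸ Z) ⧸ S.toAddSubgroup) :=
        quotAct (Γ := M) S.toAddSubgroup fun g u hu => hMS g g.2 u hu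
      have h8 := fix_of_card_le (V := (V ⧸ Z) ⧸ S.toAddSubgroup) (perfect_top hM) h6
        (Subgroup.mem_top ⟨m, hm⟩) (QuotientAddGroup.mk' S.toAddSubgroup w)
      have h9 : QuotientAddGroup.mk' S.toAddSubgroup (m • w) = QuotientAddGroup.mk' S.toAddSubgroup w := h8
      have h10 := sub_eq_zero.2 h9
      rw [← map_sub] at h10
      exact (QuotientAddGroup.eq_zero_iff _).1 h10
    have h8 : ∀ m ∈ M, ∀ u ∈ Z, m • u = u := by
      intro m hm u hu
      let _ : DistribMulAction Γ Z := subAct Z hZinv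
      have h9 := fix_of_card_le (V := Z) hM h5 hm ⟨u, hu⟩
      exact congrArg Subtype.val h9
    apply hM1
    rw [Subgroup.eq_bot_iff_forall]
    intro m hm
    apply FaithfulSMul.eq_of_smul_eq_smul (α := V)
    intro v
    rw [one_smul]
    exact fix_of_chain hM h8 (fun m hm => hsub (h7 m hm _)) hm
  -- `S` is isomorphic to some `x ^ i S`
  have hiso : ∃ i, 0 < i ∧ i < r ∧ Nonempty (S ≃ₗ[rg (V ⧸ Z) L] mapx (x ^ i) S) := by
    by_contra hno
    push Not at hno
    let T : Set (Submodule (rg (V ⧸ Z) L) (V ⧸ Z)) := {T | ∃ i, 0 < i ∧ i < r ∧ mapx (x ^ i) S = T}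
    have hsimple : ∀ m : T, IsSimpleModule (rg (V ⧸ Z) L) (m : Submodule (rg (V ⧸ Z) L) (V ⧸ Z)) := by
      rintro ⟨_, i, -, -, rfl⟩
      exact isSimpleModule_iff_isAtom.2 (isAtom_mapx hS)
    have hsS : IsSimpleModule (rg (V ⧸ Z) L) S := isSimpleModule_iff_isAtom.2 hS
    have hdis : S ⊓ sSup T = ⊥ := by
      by_cases hle : S ≤ sSup T
      · exfalso
        obtain ⟨_, ⟨i, hi0, hir, rfl⟩, hne⟩ := Submodule.linearEquiv_of_le_sSup S T hle
        exact (hno i hi0 hir).false hne.some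
      · exact hS.2 _ (lt_of_le_of_ne inf_le_left fun h => hle (inf_eq_left.1 h))
    -- the averages
    let g : (V ⧸ Z) → (V ⧸ Z) := fun s => ∑ i ∈ Finset.range r, x ^ i • s
    have hgfix : ∀ s, g s ∈ fixS (V ⧸ Z) x := by
      intro s
      rw [mem_fixS]
      change x • (∑ i ∈ Finset.range r, x ^ i • s) = ∑ i ∈ Finset.range r, x ^ i • s
      rw [Finset.smul_sum]
      have h1 : ∀ i ∈ Finset.range r, x • x ^ i • s = x ^ (i + 1) • s := fun i _ => by
        rw [smul_smul, pow_succ']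
      rw [Finset.sum_congr rfl h1]
      have h2 := Finset.sum_range_succ' (fun i => x ^ i • s) r
      have h3 := Finset.sum_range_succ (fun i => x ^ i • s) r
      rw [h2, hx, pow_zero] at h3
      exact add_right_cancel h3
    have hg0 : ∀ s ∈ S, g s = 0 → s = 0 := by
      intro s hs h0
      obtain ⟨r', rfl⟩ : ∃ r', r = r' + 1 := ⟨r - 1, by have := hr.pos; omega⟩
      have h0' : ∑ i ∈ Finset.range (r' + 1), x ^ i • s = 0 := h0
      rw [Finset.sum_range_succ', pow_zero, one_smul] at h0'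
      have h1 : ∑ i ∈ Finset.range r', x ^ (i + 1) • s ∈ sSup T := by
        refine Submodule.sum_mem _ fun i hi => ?_
        have h2 : mapx (x ^ (i + 1)) S ≤ sSup T :=
          le_sSup ⟨i + 1, by omega, by have := Finset.mem_range.1 hi; omega, rfl⟩
        apply h2
        rw [mem_mapx, inv_smul_smul]
        exact hs
      have h2 : s = -∑ i ∈ Finset.range r', x ^ (i + 1) • s := eq_neg_of_add_eq_zero_right h0'
      have h3 : s ∈ S ⊓ sSup T := ⟨hs, by rw [SetLike.mem_coe, h2]; exact neg_mem h1⟩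
      rwa [hdis, Submodule.mem_bot] at h3
    have hgsub : ∀ s t, g (s - t) = g s - g t := by
      intro s t
      change ∑ i ∈ Finset.range r, x ^ i • (s - t) = _ - _
      rw [← Finset.sum_sub_distrib]
      exact Finset.sum_congr rfl fun i _ => smul_sub _ _ _
    have hcard : Nat.card S ≤ Nat.card (fixS (V ⧸ Z) x) := by
      refine Nat.card_le_card_of_injective (fun s : S => (⟨g s, hgfix s⟩ : fixS (V ⧸ Z) x)) ?_
      intro s t hst
      have h1 : g s = g t := congrArg Subtype.val hst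
      have h2 : g ((s : V ⧸ Z) - t) = 0 := by rw [hgsub, h1, sub_self]
      exact Subtype.ext (sub_eq_zero.1 (hg0 _ (sub_mem s.2 t.2) h2))
    rcases fix_or (V := V ⧸ Z) hW2 hr hr2 ho hx with h | h
    · have h1 : mapx (x ^ 1) S = S := by
        ext w
        rw [mem_mapx, pow_one]
        have h2 : x⁻¹ • w = w := by rw [inv_smul_eq_iff, h]
        rw [h2]
      have h2 := hno 1 (by norm_num) hr.one_lt
      rw [h1] at h2
      exact h2.false (LinearEquiv.refl _ _)
    · apply hS4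
      refine hcard.trans ?_
      have h2 : 2 ^ o * Nat.card (fixS (V ⧸ Z) x) ≤ 2 ^ o * 4 := by
        calc _ ≤ Nat.card (V ⧸ Z) := h
          _ ≤ Nat.card V := hcW
          _ ≤ 2 ^ (o + 2) := hV1
          _ = 2 ^ o * 4 := by rw [pow_add]; norm_num
      exact Nat.le_of_mul_le_mul_left h2 (by positivity)
  obtain ⟨i, hi0, hir, ⟨φ⟩⟩ := hiso
  have hy : (x ^ i) ^ r = 1 := by rw [← pow_mul, mul_comm, pow_mul, hx, one_pow]
  have hact : ∀ l ∈ L, ∀ s ∈ S, l • s = (x ^ i * l * (x ^ i)⁻¹) • s := fun l hl s hs =>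
    conj_eq_of_iso hW2 hr hr2 ho hSo hy φ hl hs
  -- `L` is faithful on `S`
  have hfaith : ∀ k ∈ L, (∀ s ∈ S, k • s = s) → k = 1 := by
    let K : Subgroup L := (fixingSubgroup Γ (S : Set (V ⧸ Z))).subgroupOf L
    have hK : K.Normal := by
      refine ⟨fun k hk l => ?_⟩
      rw [Subgroup.mem_subgroupOf, mem_fixingSubgroup_iff] at hk ⊢
      intro s hs
      rw [Subgroup.coe_mul, Subgroup.coe_mul, mul_smul, mul_smul,
        hk _ (hSL _ (l⁻¹).2 s hs), Subgroup.coe_inv, smul_inv_smul]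
    intro k hk hks
    have hkK : (⟨k, hk⟩ : L) ∈ K := by
      rw [Subgroup.mem_subgroupOf, mem_fixingSubgroup_iff]
      exact hks
    rcases hLs.eq_bot_or_eq_top_of_normal K hK with h | h
    · rw [h, Subgroup.mem_bot] at hkK
      exact congrArg Subtype.val hkK
    · exfalso
      apply hSfix
      intro l hl s hs
      have h1 : (⟨l, hl⟩ : L) ∈ K := h ▸ Subgroup.mem_top _
      rw [Subgroup.mem_subgroupOf, mem_fixingSubgroup_iff] at h1
      exact h1 s hs
  have hyl : ∀ l ∈ L, x ^ i * l * (x ^ i)⁻¹ = l := by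
    intro l hl
    have h1 := hL.conj_mem l hl (x ^ i)
    have h2 := hfaith (l⁻¹ * (x ^ i * l * (x ^ i)⁻¹)) (mul_mem (inv_mem hl) h1) fun s hs => by
      rw [mul_smul, ← hact l hl s hs, inv_smul_smul]
    exact (inv_mul_eq_one.1 h2).symm
  -- `x` is a power of `x ^ i`
  have hcop : Nat.Coprime r i := (Nat.Prime.coprime_iff_not_dvd hr).2 fun h => by
    have := Nat.le_of_dvd hi0 h
    omega
  obtain ⟨k, hk1, hk2⟩ := Nat.chineseRemainder hcop 1 0
  obtain ⟨j, rfl⟩ := (Nat.modEq_zero_iff_dvd).1 hk2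
  have hxk : x ^ (i * j) = x := by
    have h1 : i * j ≡ 1 [MOD orderOf x] := hk1.of_dvd (orderOf_dvd_of_pow_eq_one hx)
    have h2 := pow_eq_pow_iff_modEq.2 h1
    rwa [pow_one] at h2
  have h1 : Commute (x ^ i) l := by
    have := hyl l hl
    exact mul_inv_eq_iff_eq_mul.1 this
  have h2 : Commute (x ^ (i * j)) l := by
    rw [pow_mul]
    exact h1.pow_left j
  rw [hxk] at h2
  exact h2

end Cfsg.Agent.H347.Aff.Two
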